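import Groth.Prelude.Def_Models
import Groth.Agent.L26.QForm
import Mathlib.Analysis.Real.Sqrt
import Mathlib.Tactic.Linarith
import Mathlib.Tactic.Push
import Mathlib.Data.ZMod.Basic
import Mathlib.Algebra.CharP.Two

/-! Basic facts on numerical types. -/

namespace Groth.L26.NumType

open Finset Models Models.NumericalType

variable {n : ℕ} (T : NumericalType n)

theorem row_sum (i : Fin n) : ∑ j, T.a i j * T.m j = 0 := by
  have := congrFun T.mulVec_m i
  simpa [Matrix.mulVec, dotProduct] using this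

theorem a_symm (i j : Fin n) : T.a i j = T.a j i := (T.symm.apply i j).symm

theorem row_sum_erase (i : Fin n) :
    ∑ j ∈ univ.erase i, T.a i j * T.m j = -(T.a i i * T.m i) := by
  have := row_sum T i
  rw [← add_sum_erase univ _ (mem_univ i)] at this
  linarith

theorem exists_neighbour (hn : 1 < n) (i : Fin n) : ∃ j, j ≠ i ∧ 0 < T.a i j := by
  obtain ⟨a, ha, b, hb, hab⟩ := T.connected {i} (singleton_nonempty i) (by
    intro h
    have := congrArg Finset.card h
    simp at this; omega)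
  simp only [mem_singleton] at ha hb
  subst ha
  exact ⟨b, hb, lt_of_le_of_ne (T.offDiag_nonneg _ _ (Ne.symm hb)) (Ne.symm hab)⟩

theorem diag_neg (hn : 1 < n) (i : Fin n) : T.a i i < 0 := by
  obtain ⟨j, hji, hj⟩ := exists_neighbour T hn i
  have h := row_sum_erase T i
  have hpos : 0 < ∑ l ∈ univ.erase i, T.a i l * T.m l := by
    refine sum_pos' (fun l hl => ?_) ⟨j, mem_erase.2 ⟨hji, mem_univ j⟩, ?_⟩
    · exact mul_nonneg (T.offDiag_nonneg i l (Ne.symm (mem_erase.1 hl).1)) (T.m_pos l).le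
    · exact mul_pos hj (T.m_pos j)
  have := T.m_pos i
  nlinarith

theorem le_of_pos_offDiag {i j : Fin n} (hij : 0 < T.a i j) (hne : i ≠ j) :
    T.m j * T.a i j ≤ -(T.a i i * T.m i) := by
  rw [← row_sum_erase T i, mul_comm]
  exact single_le_sum (f := fun l => T.a i l * T.m l)
    (fun l hl => mul_nonneg (T.offDiag_nonneg i l (Ne.symm (mem_erase.1 hl).1)) (T.m_pos l).le)
    (mem_erase.2 ⟨hne.symm, mem_univ j⟩)

theorem two_dvd_sum : (2 : ℤ) ∣ ∑ i, T.m i * T.a i i := by
  have hz : ∀ x : ZMod 2, x * x = x := by decide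
  have h0 : (∑ i, ∑ j, ((T.m i : ZMod 2) * (T.a i j) * (T.m j))) = 0 := by
    refine sum_eq_zero fun i _ => ?_
    have := congrArg (fun z : ℤ => (z : ZMod 2)) (row_sum T i)
    simp only [Int.cast_sum, Int.cast_mul, Int.cast_zero] at this
    simp only [mul_assoc, ← mul_sum, this, mul_zero]
  suffices ((∑ i, T.m i * T.a i i : ℤ) : ZMod 2) = 0 by
    simpa using (ZMod.intCast_zmod_eq_zero_iff_dvd (∑ i, T.m i * T.a i i) 2).1 this
  push_cast
  rw [← Fintype.sum_prod_type'] at h0
  have hoff : ∑ p ∈ (univ : Finset (Fin n × Fin n)).filter (fun p => ¬p.1 = p.2),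
      (T.m p.1 : ZMod 2) * (T.a p.1 p.2) * (T.m p.2) = 0 := by
    refine sum_involution (fun p _ => (p.2, p.1)) ?_ ?_ ?_ ?_
    · intro p _
      have e : (T.m p.2 : ZMod 2) * (T.a p.2 p.1) * (T.m p.1)
          = (T.m p.1 : ZMod 2) * (T.a p.1 p.2) * (T.m p.2) := by rw [a_symm T p.2 p.1]; ring
      rw [e]; exact CharTwo.add_self_eq_zero _
    · intro p hp _ h
      exact (mem_filter.1 hp).2 (congrArg Prod.fst h).symm
    · intro p hp; simpa [eq_comm] using hp
    · intro p _; rfl
  rw [← sum_filter_add_sum_filter_not univ (fun p : Fin n × Fin n => p.1 = p.2), hoff,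
    add_zero] at h0
  rw [← h0]
  refine sum_bij (fun i _ => (i, i)) (by simp) (by simp) ?_ ?_
  · rintro ⟨a, b⟩ h; simp only [mem_filter] at h; exact ⟨a, mem_univ _, by rw [← h.2]⟩
  · intro i _
    rw [mul_comm ((T.m i : ZMod 2) * _), ← mul_assoc, hz]

/-- Twice the contribution of an index to `genus - 1`. -/
def contrib (i : Fin n) : ℤ := T.m i * (2 * T.w i * (T.g i - 1) - T.a i i)

theorem two_genus : 2 * (T.genus - 1) = ∑ i, contrib T i := by
  obtain ⟨c, hc⟩ := two_dvd_sum T
  have e : ∀ i, contrib T i = 2 * (T.m i * T.w i * (T.g i - 1)) - T.m i * T.a i i := by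
    intro i; unfold contrib; ring
  simp only [e, sum_sub_distrib, ← mul_sum]
  unfold genus
  rw [hc, Int.mul_ediv_cancel_left _ two_ne_zero]
  ring

theorem exists_diag (hn : 1 < n) (i : Fin n) : ∃ k : ℤ, 1 ≤ k ∧ T.a i i = -(k * T.w i) := by
  obtain ⟨c, hc⟩ := T.w_dvd i i
  refine ⟨-c, ?_, by rw [hc]; ring⟩
  have := diag_neg T hn i; have := T.w_pos i
  by_contra h
  push Not at h
  nlinarith [mul_nonneg (T.w_pos i).le (show 0 ≤ c by omega)]

theorem contrib_eq {i : Fin n} {k : ℤ} (hk : T.a i i = -(k * T.w i)) :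
    contrib T i = T.m i * T.w i * (2 * (T.g i - 1) + k) := by
  unfold contrib; rw [hk]; ring

theorem minusOne_of_neg (hn : 1 < n) {i : Fin n} (h : contrib T i < 0) : T.IsMinusOne i := by
  obtain ⟨k, hk1, hk⟩ := exists_diag T hn i
  rw [contrib_eq T hk] at h
  have hp := mul_pos (T.m_pos i) (T.w_pos i)
  have h2 : 2 * (T.g i - 1) + k < 0 := neg_of_mul_neg_right h hp.le
  have := T.g_nonneg i
  have hk' : k = 1 := by omega
  exact ⟨by omega, by rw [hk, hk']; ring⟩

theorem minusTwo_of_zero (hn : 1 < n) {i : Fin n} (h : contrib T i = 0) : T.IsMinusTwo i := by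
  obtain ⟨k, hk1, hk⟩ := exists_diag T hn i
  rw [contrib_eq T hk] at h
  have hp := mul_pos (T.m_pos i) (T.w_pos i)
  have h2 : 2 * (T.g i - 1) + k = 0 := (mul_eq_zero.1 h).resolve_left hp.ne'
  have := T.g_nonneg i
  have hk' : k = 2 := by omega
  exact ⟨by omega, by rw [hk, hk']; ring⟩

theorem contrib_minusTwo {i : Fin n} (h : T.IsMinusTwo i) : contrib T i = 0 := by
  unfold contrib; rw [h.1, h.2]; ring

theorem contrib_nonneg (hmin : T.IsMinimal) (hn : 1 < n) (i : Fin n) : 0 ≤ contrib T i := by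
  by_contra h
  exact hmin i (minusOne_of_neg T hn (not_le.1 h))

theorem one_le_genus (hmin : T.IsMinimal) (hn : 1 < n) : 1 ≤ T.genus := by
  have := two_genus T
  have : 0 ≤ ∑ i, contrib T i := sum_nonneg fun i _ => contrib_nonneg T hmin hn i
  omega

theorem all_minusTwo (hmin : T.IsMinimal) (hn : 1 < n) (hg : T.genus = 1) (i : Fin n) :
    T.IsMinusTwo i := by
  refine minusTwo_of_zero T hn ?_
  have h := two_genus T
  rw [hg, sub_self, mul_zero, eq_comm,
    sum_eq_zero_iff_of_nonneg fun i _ => contrib_nonneg T hmin hn i] at h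
  exact h i (mem_univ i)

/-! ### The real quadratic form -/

/-- The intersection matrix with real entries. -/
def aR : Matrix (Fin n) (Fin n) ℝ := fun i j => (T.a i j : ℝ)

theorem aR_symm : (aR T).IsSymm := by
  ext i j; simp [aR, a_symm T j i]

theorem exists_smul_of_form_nonneg (x : Fin n → ℝ)
    (h : 0 ≤ ∑ i, ∑ j, (T.a i j : ℝ) * x i * x j) :
    ∃ q : ℝ, ∀ i, x i = q * T.m i := by
  refine QForm.exists_smul_of_quad_nonneg (A := aR T) T.pos (aR_symm T) ?_ ?_ ?_ ?_ x h
  · intro i j hij; exact Int.cast_nonneg (T.offDiag_nonneg i j hij)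
  · intro i; exact Int.cast_pos.2 (T.m_pos i)
  · intro i; have := row_sum T i
    simp only [aR]; exact_mod_cast this
  · intro I h1 h2
    obtain ⟨i, hi, j, hj, hij⟩ := T.connected I h1 h2
    exact ⟨i, hi, j, hj, by simpa [aR] using hij⟩

end Groth.L26.NumType
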