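import Groth.Agent.L26.NumType.Shape

/-! The affine families: each configuration is the whole type. -/

namespace Groth.L26.NumType

open Finset Models Models.NumericalType

variable {n : ℕ} {T : NumericalType n}

/-- In a configuration every edge of weight one is simple. -/
theorem config_simple {k : ℕ} {u : ℕ → Fin n} (hk : 0 < k) (hu : Set.InjOn u (Set.Iio k))
    (hv : ∀ i, T.IsMinusTwo i) {E : Finset (ℕ × ℕ)} {ℓ : ℕ × ℕ → ℝ} {y : ℕ → ℝ}
    (hy : ∀ i < k, 0 < y i) (hE : ∀ e ∈ E, e.1 < e.2 ∧ e.2 < k)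
    (hℓ : ∀ e ∈ E, ℓ e ^ 2 * ((T.w (u e.1) : ℝ) * T.w (u e.2)) ≤ (T.a (u e.1) (u e.2) : ℝ) ^ 2)
    (hsum : ∑ i ∈ range k, y i ^ 2 ≤ ∑ e ∈ E, ℓ e * (y e.1 * y e.2)) :
    k = n ∧ ∀ i j, (i, j) ∈ E → ℓ (i, j) = 1 → Simple T (u i) (u j) := by
  obtain ⟨hkn, -, ha, -⟩ := config_eq T hk u hu (fun i _ => hv _) E ℓ y hy hE hℓ hsum
  refine ⟨hkn, fun i j he h1 => ?_⟩
  obtain ⟨hij, hj⟩ := hE _ he
  dsimp only at hij hj
  have h := congrArg (fun x : ℝ => x ^ 2) (ha i (hij.trans hj) j hj hij.ne)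
  have hnot : (j, i) ∉ E := fun h' => by
    have := (hE _ h').1; dsimp only at this; omega
  simp only [lw, if_pos he, if_neg hnot, h1, add_zero, one_mul, mul_pow] at h
  rw [Real.sq_sqrt (Int.cast_nonneg (T.w_pos _).le),
    Real.sq_sqrt (Int.cast_nonneg (T.w_pos _).le)] at h
  have h' : T.a (u i) (u j) ^ 2 = T.w (u i) * T.w (u j) := by exact_mod_cast h
  have hne : u i ≠ u j := fun e =>
    hij.ne (hu (Set.mem_Iio.2 (hij.trans hj)) (Set.mem_Iio.2 hj) e)
  have hwi := T.w_pos (u i); have hwj := T.w_pos (u j)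
  have hpos : 0 < T.a (u i) (u j) := lt_of_le_of_ne (T.offDiag_nonneg _ _ hne) fun h0 => by
    rw [← h0] at h'; simp only [ne_eq, OfNat.ofNat_ne_zero, not_false_eq_true, zero_pow] at h'
    exact (mul_pos hwi hwj).ne h'
  have l1 := Int.le_of_dvd hpos (T.w_dvd (u i) (u j))
  have l2 := Int.le_of_dvd hpos (a_symm T (u j) (u i) ▸ T.w_dvd (u j) (u i))
  have e1 : T.w (u i) = T.a (u i) (u j) := by nlinarith
  have e2 : T.w (u j) = T.a (u i) (u j) := by nlinarith
  exact ⟨e1.symm, e2.trans e1.symm⟩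

/-- The bounds for a configuration whose edges are the `ℓ = 1`, `√2` or `√3` ones. -/
theorem bound_of_kind {u : ℕ → Fin n} {i j : ℕ} {ℓ : ℝ}
    (h : (ℓ = 1 ∧ u i ≠ u j ∧ T.a (u i) (u j) ≠ 0) ∨ (ℓ = √2 ∧ Double T (u i) (u j)) ∨
      (ℓ = √3 ∧ Triple T (u i) (u j))) :
    ℓ ^ 2 * ((T.w (u i) : ℝ) * T.w (u j)) ≤ (T.a (u i) (u j) : ℝ) ^ 2 := by
  rcases h with ⟨rfl, h1, h2⟩ | ⟨rfl, h⟩ | ⟨rfl, h⟩
  · exact bound_one T h1 h2
  · exact bound_double T h
  · exact bound_triple T h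

theorem ne_of_injOn {u : ℕ → Fin n} {k i j : ℕ} (hu : Set.InjOn u (Set.Iio k)) (hi : i < k)
    (hj : j < k) (hij : i ≠ j) : u i ≠ u j := fun e => hij (hu hi hj e)

theorem s22 : (√2 : ℝ) * √2 = 2 := Real.mul_self_sqrt (by norm_num)

/-! #### Cycle -/

def cycM (_ : ℕ) : ℤ := 1
def cycA (n i j : ℕ) : ℤ := if j = i + 1 ∨ (i = 0 ∧ j + 1 = n) then 1 else 0

theorem cycle_match (hv : ∀ i, T.IsMinusTwo i) {K : ℕ} (hK : 2 ≤ K) {u : ℕ → Fin n}
    (hu : Set.InjOn u (Set.Iio (K + 1))) (hp : ∀ i < K, T.a (u i) (u (i + 1)) ≠ 0)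
    (hc : T.a (u 0) (u K) ≠ 0) : K + 1 = n ∧ Matches T cycM cycM (cycA n) := by
  let E := insert (0, K) (pathE K)
  have hE : ∀ e ∈ E, e.1 < e.2 ∧ e.2 < K + 1 := by
    intro e he
    rcases mem_insert.1 he with rfl | he
    · exact ⟨by omega, by omega⟩
    · rw [mem_pathE] at he; omega
  have hℓ : ∀ e ∈ E, (fun _ : ℕ × ℕ => (1:ℝ)) e ^ 2 * ((T.w (u e.1) : ℝ) * T.w (u e.2))
      ≤ (T.a (u e.1) (u e.2) : ℝ) ^ 2 := by
    intro e he
    refine bound_of_kind (Or.inl ⟨rfl, ne_of_injOn hu (by have := hE e he; omega) (hE e he).2 (hE e he).1.ne, ?_⟩)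
    rcases mem_insert.1 he with rfl | he
    · exact hc
    · rw [mem_pathE] at he; rw [he.2]; exact hp _ he.1
  have hsum : ∑ i ∈ range (K + 1), ((fun _ => (1:ℝ)) i) ^ 2
      ≤ ∑ e ∈ E, (fun _ : ℕ × ℕ => (1:ℝ)) e * ((fun _ => (1:ℝ)) e.1 * (fun _ => (1:ℝ)) e.2) := by
    rw [sum_insert (by rw [mem_pathE]; simp; omega), sum_pathE]
    simp; linarith
  obtain ⟨hkn, hs⟩ := config_simple (by omega) hu hv (fun _ _ => one_pos) hE hℓ hsum
  refine ⟨hkn, (match_of_config hu hv cycM cycM (cycA n) 1 one_pos (r := 0) (by omega) rfl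
    (T.w (u 0)) (fun i hi => ?_) (fun i _ => by simp [cycM]) hE hℓ (fun i j hij hj => ?_) hsum).2⟩
  · rw [cycM, one_mul]
    exact weight_const (u := u) (d := K)
      (fun i hi => hs _ _ (mem_insert_of_mem (by rw [mem_pathE]; exact ⟨hi, rfl⟩)) rfl) i (by omega)
  · simp only [lw, E, mem_insert, mem_pathE, Prod.mk.injEq, cycM, cycA]
    split_ifs <;> first | omega | norm_num

/-! #### Path with two double edges -/

noncomputable def ddL (K : ℕ) (e : ℕ × ℕ) : ℝ := if e.1 = 0 ∨ e.1 + 1 = K then √2 else 1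
noncomputable def ddY (K i : ℕ) : ℝ := if i = 0 ∨ i = K then 1 else √2

def upM (n i : ℕ) : ℤ := if i + 1 = n then 1 else 2
def upW (n i : ℕ) : ℤ := if i = 0 then 1 else if i + 1 = n then 4 else 2
def upA (n i j : ℕ) : ℤ := if j = i + 1 then (if j + 1 = n then 4 else 2) else 0
def midM (_ : ℕ) : ℤ := 1
def midW (n i : ℕ) : ℤ := if i = 0 ∨ i + 1 = n then 1 else 2
def midA (_ i j : ℕ) : ℤ := if j = i + 1 then 2 else 0
def dnM (n i : ℕ) : ℤ := if i = 0 ∨ i + 1 = n then 1 else 2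
def dnW (n i : ℕ) : ℤ := if i = 0 ∨ i + 1 = n then 2 else 1
def dnA (n i j : ℕ) : ℤ := if j = i + 1 then (if i = 0 ∨ j + 1 = n then 2 else 1) else 0

theorem double_double_match (hv : ∀ i, T.IsMinusTwo i) {L : ℕ} {u : ℕ → Fin n}
    (hu : Set.InjOn u (Set.Iio (L + 3))) (hp : ∀ i < L + 2, T.a (u i) (u (i + 1)) ≠ 0)
    (h0 : Double T (u 0) (u 1)) (h1 : Double T (u (L + 1)) (u (L + 2))) :
    L + 3 = n ∧ (Matches T (upM n) (upW n) (upA n) ∨ Matches T midM (midW n) (midA n) ∨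
      Matches T (dnM n) (dnW n) (dnA n)) := by
  let E := pathE (L + 2)
  have hE : ∀ e ∈ E, e.1 < e.2 ∧ e.2 < L + 3 := by
    intro e he; rw [mem_pathE] at he; omega
  have hℓ : ∀ e ∈ E, ddL (L + 2) e ^ 2 * ((T.w (u e.1) : ℝ) * T.w (u e.2))
      ≤ (T.a (u e.1) (u e.2) : ℝ) ^ 2 := by
    intro e he
    refine bound_of_kind ?_
    obtain ⟨ha, hb⟩ := mem_pathE.1 he
    rw [hb]; simp only [ddL]
    split_ifs with h
    · rcases h with h | h
      · exact Or.inr (Or.inl ⟨rfl, by rw [h]; exact h0⟩)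
      · exact Or.inr (Or.inl ⟨rfl, by rw [show e.1 = L + 1 by omega]; exact h1⟩)
    · exact Or.inl ⟨rfl, ne_of_injOn hu (by omega) (by omega) (by omega), hp _ ha⟩
  have hy0 : ∀ i, 0 < ddY (L + 2) i := fun i => by unfold ddY; split_ifs <;> positivity
  have hsum : ∑ i ∈ range (L + 3), ddY (L + 2) i ^ 2
      ≤ ∑ e ∈ E, ddL (L + 2) e * (ddY (L + 2) e.1 * ddY (L + 2) e.2) := by
    have eL : ∀ x ∈ range (L + 1), ddY (L + 2) (x + 1) ^ 2 = 2 := by
      intro x hx; rw [mem_range] at hx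
      rw [ddY, if_neg (by omega), sq, s22]
    have eR : ∀ x ∈ range L,
        ddL (L + 2) (x + 1, x + 1 + 1) * (ddY (L + 2) (x + 1) * ddY (L + 2) (x + 1 + 1)) = 2 := by
      intro x hx; rw [mem_range] at hx
      simp only [ddL, ddY]
      rw [if_neg (by omega), if_neg (by omega), if_neg (by omega), one_mul, s22]
    rw [sum_pathE, sum_range_succ, sum_range_succ', sum_congr rfl eL]
    conv_rhs => rw [sum_range_succ, sum_range_succ', sum_congr rfl eR]
    simp [ddL, ddY, s22]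
    linarith
  obtain ⟨hkn, hs⟩ := config_simple (by omega) hu hv (fun i _ => hy0 i) hE hℓ hsum
  subst hkn
  have hmid : ∀ i, 1 ≤ i → i ≤ L + 1 → T.w (u i) = T.w (u 1) := by
    intro i h1' h2'
    obtain ⟨p, rfl⟩ : ∃ p, i = p + 1 := ⟨i - 1, by omega⟩
    exact weight_const (u := fun i => u (i + 1)) (d := L)
      (fun i hi => hs _ _ (by rw [mem_pathE]; exact ⟨by omega, rfl⟩)
        (by simp only [ddL]; rw [if_neg (by omega)])) p (by omega)
  refine ⟨rfl, ?_⟩
  have hw : ∀ {i}, i < L + 3 → ∀ a b c : ℤ, T.w (u 0) = a → T.w (u 1) = b → T.w (u (L + 2)) = c →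
      T.w (u i) = if i = 0 then a else if i + 1 = L + 3 then c else b := by
    intro i hi a b c ha hb hc
    split_ifs with h h'
    · rw [h, ha]
    · rw [show i = L + 2 by omega, hc]
    · rw [hmid i (by omega) (by omega), hb]
  have hmid1 := hmid (L + 1) (by omega) le_rfl
  simp only [Double] at h0 h1
  have hside0 : T.w (u 0) = 2 * T.w (u 1) ∨ T.w (u 1) = 2 * T.w (u 0) := h0.imp And.right And.right
  have hside1 : T.w (u 1) = 2 * T.w (u (L + 2)) ∨ T.w (u (L + 2)) = 2 * T.w (u 1) := by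
    rw [← hmid1]; exact h1.imp And.right And.right
  rcases hside0 with e0 | e0 <;> rcases hside1 with e1 | e1
  · -- down-down: reverse of up-up
    left
    have hu' : Set.InjOn (fun i => u (L + 2 - i)) (Set.Iio (L + 3)) :=
      injOn_comp hu _ (fun i _ => by omega) (fun a ha b hb e => by
        simp only [Set.mem_Iio] at ha hb; omega)
    have hE' := hE
    refine (match_of_config hu' hv (upM (L + 3)) (upW (L + 3)) (upA (L + 3)) (1 / 4) (by norm_num)
      (r := L + 2) (by omega) (by simp [upM]) (T.w (u (L + 2))) (fun i hi => ?_) (fun i hi => ⟨hy0 i, ?_⟩)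
      hE (fun e he => ?_) (fun i j hij hj => ?_) hsum).2
    · rw [hw (i := L + 2 - i) (by omega) _ _ _ e0 rfl rfl, e1]
      simp only [upW]; split_ifs <;> first | omega | ring
    · simp only [upM, upW, ddY]
      split_ifs <;> first | omega | norm_num
    · obtain ⟨ha, hb⟩ := mem_pathE.1 he
      have := hℓ (L + 1 - e.1, L + 1 - e.1 + 1) (by rw [mem_pathE]; exact ⟨by dsimp only; omega, rfl⟩)
      dsimp only at this ⊢
      rw [show L + 2 - e.1 = L + 1 - e.1 + 1 by omega, show L + 2 - e.2 = L + 1 - e.1 by omega,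
        a_symm T, mul_comm (T.w (u (L + 1 - e.1 + 1)) : ℝ)]
      refine le_of_eq_of_le ?_ this
      simp only [ddL]
      congr 2
      split_ifs <;> first | omega | rfl
    · simp only [lw, E, mem_pathE, upW, upA, ddL]
      split_ifs <;> first | omega | norm_num
  · right; right
    refine (match_of_config hu hv (dnM (L + 3)) (dnW (L + 3)) (dnA (L + 3)) (1 / 2) (by norm_num)
      (r := 0) (by omega) (by simp [dnM]) (T.w (u 1)) (fun i hi => ?_) (fun i hi => ⟨hy0 i, ?_⟩)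
      hE hℓ (fun i j hij hj => ?_) hsum).2
    · rw [hw hi _ _ _ e0 rfl e1]
      simp only [dnW]; split_ifs <;> first | omega | ring
    · simp only [dnM, dnW, ddY]; split_ifs <;> first | omega | norm_num
    · simp only [lw, E, mem_pathE, dnW, dnA, ddL]
      split_ifs <;> first | omega | norm_num
  · right; left
    refine (match_of_config hu hv midM (midW (L + 3)) (midA (L + 3)) 1 one_pos
      (r := 0) (by omega) rfl (T.w (u 0)) (fun i hi => ?_) (fun i hi => ⟨hy0 i, ?_⟩)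
      hE hℓ (fun i j hij hj => ?_) hsum).2
    · rw [hw hi _ _ _ rfl e0 rfl]
      simp only [midW]; split_ifs <;> first | omega | ring
    · simp only [midM, midW, ddY]; split_ifs <;> first | omega | norm_num
    · simp only [lw, E, mem_pathE, midW, midA, ddL]
      split_ifs <;> first | omega | norm_num
  · left
    refine (match_of_config hu hv (upM (L + 3)) (upW (L + 3)) (upA (L + 3)) (1 / 4) (by norm_num)
      (r := L + 2) (by omega) (by simp [upM]) (T.w (u 0)) (fun i hi => ?_) (fun i hi => ⟨hy0 i, ?_⟩)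
      hE hℓ (fun i j hij hj => ?_) hsum).2
    · rw [hw hi _ _ _ rfl e0 e1, e0]
      simp only [upW]; split_ifs <;> first | omega | ring
    · simp only [upM, upW, ddY]; split_ifs <;> first | omega | norm_num
    · simp only [lw, E, mem_pathE, upW, upA, ddL]
      split_ifs <;> first | omega | norm_num

/-! #### Double edge with fork -/

noncomputable def dfL (e : ℕ × ℕ) : ℝ := if e.1 = 0 then √2 else 1
noncomputable def dfY (K i : ℕ) : ℝ := if i = 0 then √2 else if i + 1 ≤ K then 2 else 1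

def duM (n i : ℕ) : ℤ := if i = 0 then 1 else if i + 2 < n then 2 else 1
def duW (i : ℕ) : ℤ := if i = 0 then 2 else 1
def duA (n i j : ℕ) : ℤ :=
  if (j = i + 1 ∧ j + 2 ≤ n) ∨ (i + 3 = n ∧ j + 1 = n) then (if i = 0 then 2 else 1) else 0
def ddnM (n i : ℕ) : ℤ := if i + 2 < n then 2 else 1
def ddnW (i : ℕ) : ℤ := if i = 0 then 1 else 2
def ddnA (n i j : ℕ) : ℤ :=
  if (j = i + 1 ∧ j + 2 ≤ n) ∨ (i + 3 = n ∧ j + 1 = n) then 2 else 0

theorem double_fork_match (hv : ∀ i, T.IsMinusTwo i) {L : ℕ} {u : ℕ → Fin n}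
    (hu : Set.InjOn u (Set.Iio (L + 4))) (hp : ∀ i < L + 2, T.a (u i) (u (i + 1)) ≠ 0)
    (hb : T.a (u (L + 1)) (u (L + 3)) ≠ 0) (h0 : Double T (u 0) (u 1)) :
    L + 4 = n ∧ (Matches T (duM n) duW (duA n) ∨ Matches T (ddnM n) ddnW (ddnA n)) := by
  let E := insert (L + 1, L + 3) (pathE (L + 2))
  have hE : ∀ e ∈ E, e.1 < e.2 ∧ e.2 < L + 4 := by
    intro e he
    rcases mem_insert.1 he with rfl | he
    · exact ⟨by omega, by omega⟩
    · rw [mem_pathE] at he; omega
  have hℓ : ∀ e ∈ E, dfL e ^ 2 * ((T.w (u e.1) : ℝ) * T.w (u e.2))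
      ≤ (T.a (u e.1) (u e.2) : ℝ) ^ 2 := by
    intro e he
    refine bound_of_kind ?_
    simp only [dfL]
    split_ifs with h
    · rcases mem_insert.1 he with rfl | he
      · simp at h
      · rw [mem_pathE] at he; exact Or.inr (Or.inl ⟨rfl, by rw [he.2, h]; exact h0⟩)
    · refine Or.inl ⟨rfl, ne_of_injOn hu (by have := hE e he; omega) (hE e he).2 (hE e he).1.ne, ?_⟩
      rcases mem_insert.1 he with rfl | he
      · exact hb
      · rw [mem_pathE] at he; rw [he.2]; exact hp _ he.1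
  have hy0 : ∀ i, 0 < dfY (L + 2) i := fun i => by unfold dfY; split_ifs <;> positivity
  have hsum : ∑ i ∈ range (L + 4), dfY (L + 2) i ^ 2
      ≤ ∑ e ∈ E, dfL e * (dfY (L + 2) e.1 * dfY (L + 2) e.2) := by
    have eL : ∀ x ∈ range (L + 1), dfY (L + 2) (x + 1) ^ 2 = 4 := by
      intro x hx; rw [mem_range] at hx
      rw [dfY, if_neg (by omega), if_pos (by omega)]; norm_num
    have eR : ∀ x ∈ range L,
        dfL (x + 1, x + 1 + 1) * (dfY (L + 2) (x + 1) * dfY (L + 2) (x + 1 + 1)) = 4 := by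
      intro x hx; rw [mem_range] at hx
      simp only [dfL, dfY]
      rw [if_neg (by omega), if_neg (by omega), if_pos (by omega), if_neg (by omega),
        if_pos (by omega)]
      norm_num
    rw [sum_insert (by rw [mem_pathE]; simp), sum_pathE, sum_range_succ, sum_range_succ,
      sum_range_succ', sum_congr rfl eL]
    conv_rhs => rw [sum_range_succ, sum_range_succ', sum_congr rfl eR]
    simp [dfL, dfY]
    nlinarith [s22]
  obtain ⟨hkn, hs⟩ := config_simple (by omega) hu hv (fun i _ => hy0 i) hE hℓ hsum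
  subst hkn
  have hone : ∀ i, 1 ≤ i → i ≤ L + 3 → T.w (u i) = T.w (u 1) := by
    intro i h1' h2'
    have hpath : ∀ i, 1 ≤ i → i ≤ L + 2 → T.w (u i) = T.w (u 1) := by
      intro i h1' h2'
      obtain ⟨p, rfl⟩ : ∃ p, i = p + 1 := ⟨i - 1, by omega⟩
      exact weight_const (u := fun i => u (i + 1)) (d := L + 1)
        (fun i hi => hs _ _ (mem_insert_of_mem (by rw [mem_pathE]; exact ⟨by omega, rfl⟩))
          (by simp only [dfL]; rw [if_neg (by omega)])) p (by omega)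
    by_cases h : i = L + 3
    · rw [h, (hs _ _ (mem_insert_self _ _) (by simp [dfL])).2, hpath _ (by omega) (by omega)]
    · exact hpath i h1' (by omega)
  refine ⟨rfl, ?_⟩
  rcases h0 with ⟨-, e0⟩ | ⟨-, e0⟩
  · left
    refine (match_of_config hu hv (duM (L + 4)) duW (duA (L + 4)) 1 one_pos (r := 0) (by omega)
      rfl (T.w (u 1)) (fun i hi => ?_) (fun i hi => ⟨hy0 i, ?_⟩) hE hℓ (fun i j hij hj => ?_) hsum).2
    · simp only [duW]; split_ifs with h
      · rw [h, e0]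
      · rw [hone i (by omega) (by omega), one_mul]
    · simp only [duM, duW, dfY]; split_ifs <;> first | omega | norm_num
    · simp only [lw, E, mem_insert, mem_pathE, Prod.mk.injEq, duW, duA, dfL]
      split_ifs <;> first | omega | norm_num
  · right
    refine (match_of_config hu hv (ddnM (L + 4)) ddnW (ddnA (L + 4)) (1 / 2) (by norm_num)
      (r := L + 3) (by omega) (by simp [ddnM]) (T.w (u 0)) (fun i hi => ?_) (fun i hi => ⟨hy0 i, ?_⟩)
      hE hℓ (fun i j hij hj => ?_) hsum).2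
    · simp only [ddnW]; split_ifs with h
      · rw [h, one_mul]
      · rw [hone i (by omega) (by omega), e0]
    · simp only [ddnM, ddnW, dfY]; split_ifs <;> first | omega | norm_num
    · simp only [lw, E, mem_insert, mem_pathE, Prod.mk.injEq, ddnW, ddnA, dfL]
      split_ifs <;> first | omega | norm_num

/-! #### Double fork -/

def ffM (n i : ℕ) : ℤ := if 2 ≤ i ∧ i + 2 < n then 2 else 1
def ffA (n i j : ℕ) : ℤ :=
  if (i = 0 ∧ j = 2) ∨ (1 ≤ i ∧ j = i + 1 ∧ j + 2 ≤ n) ∨ (i + 3 = n ∧ j + 1 = n) then 1 else 0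

theorem fork_fork_match (hv : ∀ i, T.IsMinusTwo i) {L : ℕ} {u : ℕ → Fin n}
    (hu : Set.InjOn u (Set.Iio (L + 5)))
    (hp : ∀ i, 1 ≤ i → i ≤ L + 2 → T.a (u i) (u (i + 1)) ≠ 0) (h0 : T.a (u 0) (u 2) ≠ 0)
    (hb : T.a (u (L + 2)) (u (L + 4)) ≠ 0) :
    L + 5 = n ∧ Matches T (ffM n) cycM (ffA n) := by
  let E : Finset (ℕ × ℕ) := insert (0, 2) (insert (L + 2, L + 4)
    ((range (L + 2)).image fun i => (i + 1, i + 2)))
  let y : ℕ → ℝ := fun i => if i < 2 ∨ L + 3 ≤ i then 1 else 2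
  have hmem : ∀ {i j}, (i, j) ∈ E ↔
      (i = 0 ∧ j = 2) ∨ (i = L + 2 ∧ j = L + 4) ∨ (1 ≤ i ∧ i ≤ L + 2 ∧ j = i + 1) := by
    intro i j
    simp only [E, mem_insert, mem_image, mem_range, Prod.mk.injEq]
    constructor
    · rintro (h | h | ⟨x, hx, rfl, rfl⟩) <;> omega
    · rintro (h | h | ⟨h1, h2, h3⟩)
      · exact Or.inl h
      · exact Or.inr (Or.inl h)
      · exact Or.inr (Or.inr ⟨i - 1, by omega, by omega, by omega⟩)
  have hE : ∀ e ∈ E, e.1 < e.2 ∧ e.2 < L + 5 := by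
    rintro ⟨i, j⟩ he; rw [hmem] at he; dsimp only; omega
  have hℓ : ∀ e ∈ E, (fun _ : ℕ × ℕ => (1:ℝ)) e ^ 2 * ((T.w (u e.1) : ℝ) * T.w (u e.2))
      ≤ (T.a (u e.1) (u e.2) : ℝ) ^ 2 := by
    rintro ⟨i, j⟩ he
    refine bound_of_kind (Or.inl ⟨rfl, ne_of_injOn hu (by have := hE _ he; omega) (hE _ he).2 (hE _ he).1.ne, ?_⟩)
    rw [hmem] at he
    rcases he with ⟨h1, h2⟩ | ⟨h1, h2⟩ | ⟨h1, h2, h3⟩ <;> dsimp only
    · rw [h1, h2]; exact h0
    · rw [h1, h2]; exact hb
    · rw [h3]; exact hp i h1 h2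
  have hy0 : ∀ i, 0 < y i := fun i => by simp only [y]; split_ifs <;> norm_num
  have hsum : ∑ i ∈ range (L + 5), y i ^ 2
      ≤ ∑ e ∈ E, (fun _ : ℕ × ℕ => (1:ℝ)) e * (y e.1 * y e.2) := by
    have eL : ∀ x ∈ range (L + 1), y (x + 1 + 1) ^ 2 = 4 := by
      intro x hx; rw [mem_range] at hx; simp only [y]; rw [if_neg (by omega)]; norm_num
    have eR : ∀ x ∈ range L, (1:ℝ) * (y (x + 1 + 1) * y (x + 1 + 2)) = 4 := by
      intro x hx; rw [mem_range] at hx; simp only [y]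
      rw [if_neg (by omega), if_neg (by omega)]; norm_num
    have n1 : (L + 2, L + 4) ∉ (range (L + 2)).image fun i => (i + 1, i + 2) := by
      simp only [mem_image, Prod.mk.injEq, not_exists, not_and]; intros; omega
    have n0 : ((0 : ℕ), 2) ∉
        insert (L + 2, L + 4) ((range (L + 2)).image fun i => (i + 1, i + 2)) := by
      simp only [mem_insert, mem_image, Prod.mk.injEq, not_or, not_exists, not_and]
      exact ⟨by intros; omega, by intros; omega⟩
    rw [sum_insert n0, sum_insert n1, sum_image (fun a _ b _ h => by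
      have := (Prod.ext_iff.1 h).1; dsimp only at this; omega)]
    rw [sum_range_succ, sum_range_succ, sum_range_succ', sum_range_succ', sum_congr rfl eL]
    conv_rhs => rw [sum_range_succ, sum_range_succ', sum_congr rfl eR]
    simp [y]
    norm_num
    linarith
  obtain ⟨hkn, hs⟩ := config_simple (by omega) hu hv (fun i _ => hy0 i) hE hℓ hsum
  subst hkn
  have hpath : ∀ p, p ≤ L + 2 → T.w (u (p + 1)) = T.w (u 1) := fun p hpp =>
    weight_const (u := fun i => u (i + 1)) (d := L + 2)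
      (fun i hi => hs _ _ (hmem.2 (Or.inr (Or.inr ⟨by omega, by omega, rfl⟩))) rfl) p hpp
  have hw : ∀ i < L + 5, T.w (u i) = cycM i * T.w (u 1) := by
    intro i hi; rw [cycM, one_mul]
    rcases Nat.eq_zero_or_pos i with rfl | hpos
    · rw [← (hs 0 2 (hmem.2 (Or.inl ⟨rfl, rfl⟩)) rfl).2]; exact hpath 1 (by omega)
    by_cases h : i = L + 4
    · rw [h, (hs (L + 2) (L + 4) (hmem.2 (Or.inr (Or.inl ⟨rfl, rfl⟩))) rfl).2]
      exact hpath (L + 1) (by omega)
    · obtain ⟨p, rfl⟩ : ∃ p, i = p + 1 := ⟨i - 1, by omega⟩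
      exact hpath p (by omega)
  refine ⟨rfl, (match_of_config hu hv (ffM (L + 5)) cycM (ffA (L + 5)) 1 one_pos (r := 0) (by omega)
    (by simp [ffM]) (T.w (u 1)) hw (fun i hi => ⟨hy0 i, ?_⟩) hE hℓ (fun i j hij hj => ?_) hsum).2⟩
  · simp only [ffM, cycM, y]; split_ifs <;> first | omega | norm_num
  · simp only [lw, hmem, cycM, ffA]
    split_ifs <;> first | omega | norm_num

end Groth.L26.NumType
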