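import Groth.Agent.L26.NumType.Classify

/-! Normal forms of chains of (-2)-indices. -/

namespace Groth.L26.NumType

open Finset Models Models.NumericalType

variable {n : ℕ} {T : NumericalType n}

/-- The types `A`, `C`, `B` (and `F₄` for four vertices) of chains. -/
def ChainNF (T : NumericalType n) (u : ℕ → Fin n) (t : ℕ) (w : ℤ) : Prop :=
  ((∀ i < t, T.w (u i) = w) ∧ ∀ i, i + 1 < t → T.a (u i) (u (i + 1)) = w) ∨
  ((∀ i, i + 1 < t → T.w (u i) = w) ∧ T.w (u (t - 1)) = 2 * w ∧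
    (∀ i, i + 2 < t → T.a (u i) (u (i + 1)) = w) ∧ T.a (u (t - 2)) (u (t - 1)) = 2 * w) ∨
  ((∀ i, i + 1 < t → T.w (u i) = 2 * w) ∧ T.w (u (t - 1)) = w ∧
    ∀ i, i + 1 < t → T.a (u i) (u (i + 1)) = 2 * w) ∨
  (t = 4 ∧ T.w (u 0) = w ∧ T.w (u 1) = w ∧ T.w (u 2) = 2 * w ∧ T.w (u 3) = 2 * w ∧
    T.a (u 0) (u 1) = w ∧ T.a (u 1) (u 2) = 2 * w ∧ T.a (u 2) (u 3) = 2 * w)

theorem nf_of_last {u : ℕ → Fin n} {t : ℕ} (ht : 3 ≤ t)
    (hd : Double T (u (t - 2)) (u (t - 1)))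
    (hs : ∀ i, i + 2 < t → Simple T (u i) (u (i + 1))) : ∃ w, ChainNF T u t w := by
  have hw : ∀ i, i + 1 < t → T.w (u i) = T.w (u 0) := fun i hi =>
    weight_const (u := u) (d := t - 2) (fun i hi => hs i (by omega)) i (by omega)
  have hl := hw (t - 2) (by omega)
  rcases hd with ⟨ha, hb⟩ | ⟨ha, hb⟩
  · refine ⟨T.w (u (t - 1)), Or.inr (Or.inr (Or.inl ⟨fun i hi => ?_, rfl, fun i hi => ?_⟩))⟩
    · rw [hw i hi, ← hl, hb]
    · by_cases h2 : i + 2 < t
      · rw [(hs i h2).1, hw i hi, ← hl, hb]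
      · rw [show i = t - 2 by omega, show t - 2 + 1 = t - 1 by omega, ha, hb]
  · refine ⟨T.w (u 0), Or.inr (Or.inl ⟨hw, by rw [hb, hl], fun i hi => ?_, by rw [ha, hb, hl]⟩)⟩
    rw [(hs i hi).1, hw i (by omega)]

theorem rev_double {u : ℕ → Fin n} {t d : ℕ} (hd : d + 1 < t) (h : Double T (u d) (u (d + 1))) :
    Double T (u (t - 1 - (t - 2 - d))) (u (t - 1 - (t - 2 - d + 1))) := by
  rw [show t - 1 - (t - 2 - d) = d + 1 by omega, show t - 1 - (t - 2 - d + 1) = d by omega]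
  exact h.symm

theorem rev_simple {u : ℕ → Fin n} {t d : ℕ} (hd : d + 1 < t) (h : Simple T (u d) (u (d + 1))) :
    Simple T (u (t - 1 - (t - 2 - d))) (u (t - 1 - (t - 2 - d + 1))) := by
  rw [show t - 1 - (t - 2 - d) = d + 1 by omega, show t - 1 - (t - 2 - d + 1) = d by omega]
  exact h.symm

theorem IsPath.normal_form {u : ℕ → Fin n} {t : ℕ} (h : IsPath T u t) (ht : 3 ≤ t) (htn : t < n) :
    ∃ u' : ℕ → Fin n, ((∀ i < t, u' i = u i) ∨ (∀ i < t, u' i = u (t - 1 - i))) ∧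
      IsPath T u' t ∧ ∃ w, ChainNF T u' t w := by
  rcases h.chain_cases ht htn with hs | ⟨d, hd1, hd2, hd3, hd4⟩
  · refine ⟨u, Or.inl fun _ _ => rfl, h, T.w (u 0), Or.inl ⟨fun i hi => ?_, fun i hi => ?_⟩⟩
    · exact weight_const (u := u) (d := t - 1) (fun i hi => hs i (by omega)) i (by omega)
    · rw [(hs i hi).1]
      exact weight_const (u := u) (d := t - 1) (fun i hi => hs i (by omega)) i (by omega)
  by_cases hlast : d + 2 = t
  · refine ⟨u, Or.inl fun _ _ => rfl, h, nf_of_last ht ?_ fun i hi => hd4 i (by omega) (by omega)⟩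
    rw [show t - 2 = d by omega, show t - 1 = d + 1 by omega]; exact hd2
  by_cases hfirst : d = 0
  · subst hfirst
    refine ⟨_, Or.inr fun _ _ => rfl, h.rev, nf_of_last ht ?_ fun i hi => ?_⟩
    · have := rev_double hd1 hd2
      rwa [show t - 1 = t - 2 + 1 by omega] at this ⊢
    · have h' := hd4 (t - 2 - i) (by omega) (by omega)
      have := rev_simple (u := u) (t := t) (d := t - 2 - i) (by omega) h'
      rwa [show t - 2 - (t - 2 - i) = i by omega] at this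
  have ht4 : t = 4 := by
    rcases Nat.lt_or_ge t 5 with h5 | h5
    · omega
    · exact absurd (hd3 h5) (by omega)
  subst ht4
  obtain rfl : d = 1 := by omega
  obtain ⟨a0, b0⟩ := hd4 0 (by omega) (by omega)
  obtain ⟨a2, b2⟩ := hd4 2 (by omega) (by omega)
  simp only [show (2:ℕ) + 1 = 3 from rfl, show (0:ℕ) + 1 = 1 from rfl] at a0 b0 a2 b2
  rcases hd2 with ⟨a1, b1⟩ | ⟨a1, b1⟩ <;> simp only [show (1:ℕ) + 1 = 2 from rfl] at a1 b1
  · refine ⟨_, Or.inr fun _ _ => rfl, h.rev, T.w (u 2), Or.inr (Or.inr (Or.inr ⟨rfl, ?_⟩))⟩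
    have := a_symm T (u 0) (u 1); have := a_symm T (u 1) (u 2); have := a_symm T (u 2) (u 3)
    dsimp only
    simp only [show 4 - 1 - 0 = 3 from rfl, show 4 - 1 - 1 = 2 from rfl, show 4 - 1 - 2 = 1 from rfl,
      show 4 - 1 - 3 = 0 from rfl]
    simp only [true_and]
    omega
  · refine ⟨u, Or.inl fun _ _ => rfl, h, T.w (u 0), Or.inr (Or.inr (Or.inr ⟨rfl, rfl, ?_⟩))⟩
    omega

theorem ofPath {k : ℕ} [NeZero k] {v : Fin k → Fin n} (hinj : Function.Injective v)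
    (hv : ∀ j, T.IsMinusTwo (v j))
    (hadj : ∀ j j' : Fin k, j'.val = j.val + 1 → T.a (v j) (v j') ≠ 0) :
    IsPath T (ext v) k := by
  refine ⟨ext_injOn hinj, fun i _ => hv _, fun i hi => ?_⟩
  rw [ext_mk v (by omega : i < k), ext_mk v hi]
  exact hadj _ _ rfl

end Groth.L26.NumType
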