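import Groth.Agent.L26.NumType.Graphs

/-! Chains and trees of (-2)-indices on a proper subset of the indices. -/

namespace Groth.L26.NumType

open Finset Models Models.NumericalType

variable {n : ℕ} (T : NumericalType n)

/-- `u 0 — u 1 — ⋯ — u (t-1)` is a path of distinct (-2)-indices. -/
structure IsPath (u : ℕ → Fin n) (t : ℕ) : Prop where
  inj : Set.InjOn u (Set.Iio t)
  minusTwo : ∀ i < t, T.IsMinusTwo (u i)
  adj : ∀ i, i + 1 < t → T.a (u i) (u (i + 1)) ≠ 0

variable {T}

theorem IsPath.ne {u : ℕ → Fin n} {t : ℕ} (h : IsPath T u t) {i j : ℕ} (hi : i < t) (hj : j < t)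
    (hij : i ≠ j) : u i ≠ u j := fun e => hij (h.inj hi hj e)

theorem IsPath.rev {u : ℕ → Fin n} {t : ℕ} (h : IsPath T u t) :
    IsPath T (fun i => u (t - 1 - i)) t where
  inj a ha b hb e := by
    simp only [Set.mem_Iio] at ha hb
    have := h.inj (Set.mem_Iio.2 (by omega)) (Set.mem_Iio.2 (by omega)) e
    omega
  minusTwo i hi := h.minusTwo _ (by omega)
  adj i hi := by
    have h2 := h.adj (t - 1 - (i + 1)) (by omega)
    rw [show t - 1 - (i + 1) + 1 = t - 1 - i by omega] at h2
    rw [a_symm T]; exact h2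

theorem injOn_comp {u : ℕ → Fin n} {t k : ℕ} (hu : Set.InjOn u (Set.Iio t)) (σ : ℕ → ℕ)
    (hlt : ∀ i < k, σ i < t) (hσ : Set.InjOn σ (Set.Iio k)) :
    Set.InjOn (fun i => u (σ i)) (Set.Iio k) :=
  hu.comp hσ (fun i hi => hlt i hi)

variable {u : ℕ → Fin n} {t : ℕ}

theorem IsPath.zero_of_lt (h : IsPath T u t) (htn : t < n) {i j : ℕ} (hij : i + 1 < j)
    (hj : j < t) : T.a (u i) (u j) = 0 := by
  have key := no_cycle T (K := j - i) (by omega) (by omega) (fun l => u (i + l))
    (injOn_comp h.inj _ (fun l hl => by omega) (fun a _ b _ e => Nat.add_left_cancel e))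
    (fun l hl => h.minusTwo _ (by omega)) (fun l hl => h.adj (i + l) (by omega))
  simpa [show i + (j - i) = j by omega] using key

theorem IsPath.not_triple (h : IsPath T u t) (ht : 3 ≤ t) (htn : t < n) {i : ℕ} (hi : i + 1 < t) :
    ¬ Triple T (u i) (u (i + 1)) := by
  intro h3
  by_cases hi2 : i + 2 < t
  · refine no_triple T (by omega) (fun l => u (i + (2 - l))) ?_ (fun l _ => h.minusTwo _ (by omega)) ?_ ?_
    · refine injOn_comp h.inj _ (fun l _ => by omega) (fun a ha b hb e => ?_)
      simp only [Set.mem_Iio] at ha hb; omega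
    · rw [a_symm T]; exact h.adj (i + 1) hi2
    · exact h3.symm
  · obtain ⟨p, rfl⟩ : ∃ p, i = p + 1 := ⟨i - 1, by omega⟩
    refine no_triple T (by omega) (fun l => u (p + l)) ?_ (fun l _ => h.minusTwo _ (by omega)) ?_ h3
    · exact injOn_comp h.inj _ (fun l hl => by omega) (fun a _ b _ e => Nat.add_left_cancel e)
    · exact h.adj p (by omega)

theorem IsPath.simple_or_double (h : IsPath T u t) (ht : 3 ≤ t) (htn : t < n) {i : ℕ}
    (hi : i + 1 < t) : Simple T (u i) (u (i + 1)) ∨ Double T (u i) (u (i + 1)) := by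
  rcases edge_cases T (by omega) (h.ne (by omega) hi (by omega)) (h.minusTwo _ (by omega))
    (h.minusTwo _ hi) (h.adj i hi) with h' | h' | h'
  · exact Or.inl h'
  · exact Or.inr h'
  · exact absurd h' (h.not_triple ht htn hi)

theorem IsPath.double_unique_lt (h : IsPath T u t) (htn : t < n) {i j : ℕ} (hij : i < j)
    (hj : j + 1 < t) (h1 : Double T (u i) (u (i + 1))) (h2 : Double T (u j) (u (j + 1))) :
    False := by
  refine no_double_double T (K := j - i + 1) (by omega) (by omega) (fun l => u (i + l))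
    (injOn_comp h.inj _ (fun l hl => by omega) (fun a _ b _ e => Nat.add_left_cancel e))
    (fun l hl => h.minusTwo _ (by omega)) (fun l hl => h.adj (i + l) (by omega)) h1 ?_
  simpa [show i + (j - i + 1) = j + 1 by omega, show i + (j - i) = j by omega] using h2

theorem IsPath.double_end (h : IsPath T u t) (ht : 5 ≤ t) (htn : t < n) {i : ℕ} (hi : i + 1 < t)
    (h1 : Double T (u i) (u (i + 1))) : i = 0 ∨ i + 2 = t := by
  by_contra hc
  push Not at hc
  by_cases hi1 : i = 1
  · subst hi1
    refine no_F4 T (by omega) (fun l => u (4 - l)) ?_ (fun l _ => h.minusTwo _ (by omega)) ?_ (by simpa using h1.symm)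
    · refine injOn_comp h.inj _ (fun l _ => by omega) (fun a ha b hb e => ?_)
      simp only [Set.mem_Iio] at ha hb; omega
    · intro l hl
      rw [a_symm T, show 4 - l = 4 - (l + 1) + 1 by omega]
      exact h.adj _ (by omega)
  · obtain ⟨p, rfl⟩ : ∃ p, i = p + 2 := ⟨i - 2, by omega⟩
    exact no_F4 T (by omega) (fun l => u (p + l))
      (injOn_comp h.inj _ (fun l hl => by omega) (fun a _ b _ e => Nat.add_left_cancel e))
      (fun l hl => h.minusTwo _ (by omega)) (fun l hl => h.adj (p + l) (by omega)) h1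

theorem weight_const {d : ℕ} (hs : ∀ i < d, Simple T (u i) (u (i + 1))) :
    ∀ i ≤ d, T.w (u i) = T.w (u 0) := by
  intro i
  induction i with
  | zero => intro _; rfl
  | succ i ih => intro hi; rw [(hs i (by omega)).2, ih (by omega)]

/-- A chain is simply laced or has exactly one double edge. -/
theorem IsPath.chain_cases (h : IsPath T u t) (ht : 3 ≤ t) (htn : t < n) :
    (∀ i, i + 1 < t → Simple T (u i) (u (i + 1))) ∨
      ∃ d, d + 1 < t ∧ Double T (u d) (u (d + 1)) ∧ (5 ≤ t → d = 0 ∨ d + 2 = t) ∧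
        ∀ i, i + 1 < t → i ≠ d → Simple T (u i) (u (i + 1)) := by
  by_cases hd : ∃ d, d + 1 < t ∧ Double T (u d) (u (d + 1))
  · obtain ⟨d, hd1, hd2⟩ := hd
    refine Or.inr ⟨d, hd1, hd2, fun h5 => h.double_end h5 htn hd1 hd2, fun i hi hne => ?_⟩
    rcases h.simple_or_double ht htn hi with h' | h'
    · exact h'
    · rcases Nat.lt_or_gt_of_ne hne with hlt | hlt
      · exact (h.double_unique_lt htn hlt hd1 h' hd2).elim
      · exact (h.double_unique_lt htn hlt hi hd2 h').elim
  · left
    intro i hi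
    rcases h.simple_or_double ht htn hi with h' | h'
    · exact h'
    · exact absurd ⟨i, hi, h'⟩ hd

/-- In a diagram of type `D` all edges are simple. -/
theorem IsPath.fork_simple (h : IsPath T u t) (ht : 3 ≤ t) (htn : t + 1 < n)
    (hu : Set.InjOn u (Set.Iio (t + 1))) (hvt : T.IsMinusTwo (u t))
    (hb : T.a (u (t - 2)) (u t) ≠ 0) {i : ℕ} (hi : i + 1 < t) :
    Simple T (u i) (u (i + 1)) := by
  rcases h.simple_or_double ht (by omega) hi with h' | hd
  · exact h'
  exfalso
  have hm : ∀ l ≤ t, T.IsMinusTwo (u l) := fun l hl =>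
    (Nat.lt_or_eq_of_le hl).elim (h.minusTwo l) (fun e => e ▸ hvt)
  by_cases hlast : i + 2 = t
  · obtain ⟨p, rfl⟩ : ∃ p, t = p + 3 := ⟨t - 3, by omega⟩
    obtain rfl : i = p + 1 := by omega
    let σ : ℕ → ℕ := fun l => if l = 0 then p + 2 else if l = 1 then p + 1 else if l = 2 then p else p + 3
    refine no_double_fork T (K := 2) le_rfl (by omega) (fun l => u (σ l)) ?_ ?_ ?_ ?_ hd.symm
    · refine injOn_comp hu σ (fun l hl => by simp only [σ]; split_ifs <;> omega) (fun a ha b hb e => ?_)
      simp only [Set.mem_Iio] at ha hb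
      interval_cases a <;> interval_cases b <;> simp [σ] at e ⊢ <;> omega
    · intro l hl; apply hm; simp only [σ]; split_ifs <;> omega
    · intro l hl
      interval_cases l
      · simpa [σ, a_symm T (u (p + 2))] using h.adj (p + 1) (by omega)
      · simpa [σ, a_symm T (u (p + 1))] using h.adj p (by omega)
    · simpa [σ] using hb
  · refine no_double_fork T (K := t - 1 - i) (by omega) (by omega) (fun l => u (i + l))
      (injOn_comp hu _ (fun l hl => by omega) (fun a _ b _ e => Nat.add_left_cancel e))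
      (fun l hl => hm _ (by omega)) (fun l hl => h.adj (i + l) (by omega)) ?_ hd
    simpa [show i + (t - 1 - i - 1) = t - 2 by omega, show i + (t - 1 - i + 1) = t by omega] using hb

/-- Diagrams of type `D`: chain `0 .. t-1` with `t` attached to `t-2`. -/
theorem fork_structure {u : ℕ → Fin n} {t : ℕ} (ht : 3 ≤ t) (htn : t + 1 < n)
    (hu : Set.InjOn u (Set.Iio (t + 1))) (hv : ∀ i ≤ t, T.IsMinusTwo (u i))
    (hp : ∀ i, i + 1 < t → T.a (u i) (u (i + 1)) ≠ 0) (hb : T.a (u (t - 2)) (u t) ≠ 0) :
    (∀ i ≤ t, T.w (u i) = T.w (u 0)) ∧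
      (∀ i, i + 1 < t → T.a (u i) (u (i + 1)) = T.w (u 0)) ∧ T.a (u (t - 2)) (u t) = T.w (u 0) ∧
      ∀ i j, i < j → j ≤ t → ¬(j = i + 1 ∧ j < t) → ¬(i + 2 = t ∧ j = t) → T.a (u i) (u j) = 0 := by
  have h : IsPath T u t :=
    ⟨hu.mono (Set.Iio_subset_Iio (by omega)), fun i hi => hv i hi.le, hp⟩
  -- the second maximal path
  let σ : ℕ → ℕ := fun l => if l = t - 1 then t else if l = t then t - 1 else l
  have hσlt : ∀ l < t + 1, σ l < t + 1 := fun l hl => by simp only [σ]; split_ifs <;> omega
  have hσinj : Set.InjOn σ (Set.Iio (t + 1)) := fun a _ b _ e => by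
    simp only [σ] at e; split_ifs at e <;> omega
  have hσ1 : ∀ l, l + 1 < t → σ l = l := fun l hl => by
    simp only [σ]; rw [if_neg (by omega), if_neg (by omega)]
  have hσt : σ (t - 1) = t := if_pos rfl
  have hσt' : σ t = t - 1 := by simp only [σ]; rw [if_neg (by omega)]; simp
  have hu' := injOn_comp hu σ hσlt hσinj
  have h' : IsPath T (fun l => u (σ l)) t := by
    refine ⟨hu'.mono (Set.Iio_subset_Iio (by omega)), fun i hi => hv _ (by have := hσlt i (by omega); omega), fun i hi => ?_⟩
    rw [hσ1 i hi]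
    by_cases hi2 : i + 2 = t
    · rw [show i + 1 = t - 1 by omega, hσt, show i = t - 2 by omega]; exact hb
    · rw [hσ1 (i + 1) (by omega)]; exact hp i hi
  have hw : ∀ i < t, T.w (u i) = T.w (u 0) := fun i hi =>
    weight_const (u := u) (d := t - 1) (fun i hi => h.fork_simple ht htn hu (hv t le_rfl) hb (by omega)) i
      (by omega)
  have hsimp : ∀ i, i + 1 < t → Simple T (u i) (u (i + 1)) := fun i hi =>
    h.fork_simple ht htn hu (hv t le_rfl) hb hi
  have hbs : Simple T (u (t - 2)) (u t) := by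
    have := h'.fork_simple ht htn hu' (by rw [hσt']; exact hv _ (by omega))
      (by
        have e := hp (t - 2) (by omega)
        rw [show t - 2 + 1 = t - 1 by omega] at e
        rw [hσ1 (t - 2) (by omega), hσt']; exact e) (i := t - 2) (by omega)
    rwa [hσ1 (t - 2) (by omega), show t - 2 + 1 = t - 1 by omega, hσt] at this
  refine ⟨fun i hi => ?_, fun i hi => ?_, ?_, ?_⟩
  · rcases Nat.lt_or_eq_of_le hi with hlt | rfl
    · exact hw i hlt
    · rw [hbs.2, hw _ (by omega)]
  · rw [(hsimp i hi).1, hw i (by omega)]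
  · rw [hbs.1, hw _ (by omega)]
  · intro i j hij hj h1 h2
    rcases Nat.lt_or_eq_of_le hj with hlt | rfl
    · exact h.zero_of_lt (by omega) (by omega) hlt
    · by_cases hi1 : i + 1 = j
      · refine no_cycle T (K := 2) le_rfl (by omega)
          (fun l => u (if l = 0 then i else if l = 1 then j - 2 else j)) ?_ ?_ ?_
        · refine injOn_comp hu _ (fun l _ => by split_ifs <;> omega) (fun a ha b hb e => ?_)
          simp only [Set.mem_Iio] at ha hb
          interval_cases a <;> interval_cases b <;> simp at e ⊢ <;> omega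
        · intro l _; apply hv; split_ifs <;> omega
        · intro l hl
          interval_cases l
          · have e := hp (j - 2) (by omega)
            rw [show j - 2 + 1 = i by omega] at e
            rw [a_symm T] at e
            simpa using e
          · simpa using hb
      · have := h'.zero_of_lt (i := i) (j := j - 1) (by omega) (by omega) (by omega)
        rwa [hσ1 i (by omega), hσt] at this

theorem ineq_finset {i : Fin n} (hi : T.IsMinusTwo i) (S : Finset (Fin n)) (hS : i ∉ S) :
    ∑ j ∈ S, T.a i j * T.m j ≤ 2 * T.w i * T.m i := by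
  have h := row_sum_erase T i
  rw [hi.2] at h
  calc ∑ j ∈ S, T.a i j * T.m j ≤ ∑ j ∈ univ.erase i, T.a i j * T.m j := by
        refine sum_le_sum_of_subset_of_nonneg ?_ fun j hj _ =>
          mul_nonneg (T.offDiag_nonneg i j (Ne.symm (mem_erase.1 hj).1)) (T.m_pos j).le
        intro j hj; exact mem_erase.2 ⟨fun e => hS (e ▸ hj), mem_univ j⟩
    _ = 2 * T.w i * T.m i := by rw [h]; ring

theorem ineq_one {i j : Fin n} (hi : T.IsMinusTwo i) (hne : i ≠ j) :
    T.a i j * T.m j ≤ 2 * T.w i * T.m i := by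
  simpa using ineq_finset hi {j} (by simpa using hne)

theorem ineq_two {i j k : Fin n} (hi : T.IsMinusTwo i) (hj : i ≠ j) (hk : i ≠ k) (hjk : j ≠ k) :
    T.a i j * T.m j + T.a i k * T.m k ≤ 2 * T.w i * T.m i := by
  have := ineq_finset hi {j, k} (by simp [hj, hk])
  rwa [sum_pair hjk] at this

theorem ineq_three {i j k l : Fin n} (hi : T.IsMinusTwo i) (hj : i ≠ j) (hk : i ≠ k) (hl : i ≠ l)
    (hjk : j ≠ k) (hjl : j ≠ l) (hkl : k ≠ l) :
    T.a i j * T.m j + T.a i k * T.m k + T.a i l * T.m l ≤ 2 * T.w i * T.m i := by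
  have := ineq_finset hi {j, k, l} (by simp [hj, hk, hl])
  rw [sum_insert (by simp [hjk, hjl]), sum_pair hkl] at this
  linarith

/-- Cancel a positive weight in an inequality between multiplicities. -/
theorem cancel_w {w A B : ℤ} (hw : 0 < w) (h : w * A ≤ w * B) : A ≤ B :=
  le_of_mul_le_mul_left h hw

/-- A `Fin`-indexed family as a function on `ℕ`. -/
def ext {k : ℕ} [NeZero k] (v : Fin k → Fin n) : ℕ → Fin n := fun i => v (Fin.ofNat k i)

theorem ext_val {k : ℕ} [NeZero k] (v : Fin k → Fin n) (j : Fin k) : ext v j.val = v j := by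
  simp [ext]

theorem ext_mk {k : ℕ} [NeZero k] (v : Fin k → Fin n) {i : ℕ} (h : i < k) :
    ext v i = v ⟨i, h⟩ := ext_val v ⟨i, h⟩

theorem ext_injOn {k : ℕ} [NeZero k] {v : Fin k → Fin n} (hv : Function.Injective v) :
    Set.InjOn (ext v) (Set.Iio k) := by
  intro a ha b hb e
  rw [ext_mk v ha, ext_mk v hb] at e
  exact congrArg Fin.val (hv e)

end Groth.L26.NumType
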