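import Groth.Agent.L26.NumType.Basic
import Mathlib.Tactic.NormNum
import Mathlib.Tactic.Positivity

/-! Forbidden configurations of (-2)-indices. A configuration is a list of `k` vertices `u 0 .. u (k-1)`,
a finite set `E` of edges, a lower bound `ℓ` for the normalised weights of the edges and a test vector
`y` on which the normalised form is non-negative. -/

namespace Groth.L26.NumType

open Finset Models Models.NumericalType

variable {n : ℕ} (T : NumericalType n)

/-- Symmetrised edge weights. -/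
noncomputable def lw (E : Finset (ℕ × ℕ)) (ℓ : ℕ × ℕ → ℝ) (p q : ℕ) : ℝ :=
  (if (p, q) ∈ E then ℓ (p, q) else 0) + (if (q, p) ∈ E then ℓ (q, p) else 0)

theorem sum_lw {k : ℕ} {E : Finset (ℕ × ℕ)} (ℓ : ℕ × ℕ → ℝ) (y : ℕ → ℝ)
    (hE : ∀ e ∈ E, e.1 < k ∧ e.2 < k) :
    ∑ p ∈ range k, ∑ q ∈ range k, lw E ℓ p q * (y p * y q)
      = 2 * ∑ e ∈ E, ℓ e * (y e.1 * y e.2) := by
  have h1 : ∑ p ∈ range k, ∑ q ∈ range k, (if (p, q) ∈ E then ℓ (p, q) else 0) * (y p * y q)
      = ∑ e ∈ E, ℓ e * (y e.1 * y e.2) := by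
    rw [← sum_product']
    have hsub : E ⊆ range k ×ˢ range k := fun e he => by
      simp [(hE e he).1, (hE e he).2]
    rw [← sum_subset hsub (f := fun e : ℕ × ℕ => (if (e.1, e.2) ∈ E then ℓ (e.1, e.2) else 0) * (y e.1 * y e.2))]
    · refine sum_congr rfl fun e he => ?_
      simp [he]
    · intro e _ he; simp [he]
  have h2 : ∑ p ∈ range k, ∑ q ∈ range k, (if (q, p) ∈ E then ℓ (q, p) else 0) * (y p * y q)
      = ∑ e ∈ E, ℓ e * (y e.1 * y e.2) := by
    rw [sum_comm, ← h1]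
    exact sum_congr rfl fun p _ => sum_congr rfl fun q _ => by ring
  simp only [lw, add_mul, sum_add_distrib, h1, h2]
  ring

/-- What it means for a configuration to be the whole type. -/
def ConfigEq (k : ℕ) (u : ℕ → Fin n) (E : Finset (ℕ × ℕ)) (ℓ : ℕ × ℕ → ℝ) (y : ℕ → ℝ) : Prop :=
  k = n ∧
    (∃ q : ℝ, ∀ i < k, y i = q * ((T.m (u i) : ℝ) * √(T.w (u i) : ℝ))) ∧
    (∀ i < k, ∀ j < k, i ≠ j →
      (T.a (u i) (u j) : ℝ) = lw E ℓ i j * (√(T.w (u i) : ℝ) * √(T.w (u j) : ℝ))) ∧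
    ∑ i ∈ range k, y i ^ 2 = ∑ e ∈ E, ℓ e * (y e.1 * y e.2)

/-- A configuration on which the form is non-negative uses every index, has exactly the given edges
with exactly the given weights, and its test vector is proportional to the multiplicities. -/
theorem config_eq {k : ℕ} (hk : 0 < k) (u : ℕ → Fin n) (hu : Set.InjOn u (Set.Iio k))
    (hv : ∀ i < k, T.IsMinusTwo (u i)) (E : Finset (ℕ × ℕ)) (ℓ : ℕ × ℕ → ℝ) (y : ℕ → ℝ)
    (hy : ∀ i < k, 0 < y i) (hE : ∀ e ∈ E, e.1 < e.2 ∧ e.2 < k)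
    (hℓ : ∀ e ∈ E, ℓ e ^ 2 * ((T.w (u e.1) : ℝ) * T.w (u e.2)) ≤ (T.a (u e.1) (u e.2) : ℝ) ^ 2)
    (hsum : ∑ i ∈ range k, y i ^ 2 ≤ ∑ e ∈ E, ℓ e * (y e.1 * y e.2)) :
    ConfigEq T k u E ℓ y := by
  classical
  let s : Fin n → ℝ := fun i => √(T.w i : ℝ)
  have hs : ∀ i, 0 < s i := fun i => Real.sqrt_pos.2 (Int.cast_pos.2 (T.w_pos i))
  have hs2 : ∀ i, s i ^ 2 = (T.w i : ℝ) := fun i => Real.sq_sqrt (Int.cast_nonneg (T.w_pos i).le)
  let x : Fin n → ℝ := fun l => ∑ i ∈ range k, if u i = l then y i / s l else 0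
  have inj : ∀ {i j}, i < k → j < k → u i = u j → i = j := fun hi hj h => hu hi hj h
  have hxu : ∀ i < k, x (u i) = y i / s (u i) := by
    intro i hi
    simp only [x]
    rw [sum_eq_single i (fun j hj hne => if_neg fun h => hne (inj (mem_range.1 hj) hi h))
      (fun h => absurd (mem_range.2 hi) h), if_pos rfl]
  have hx0 : ∀ l, l ∉ (range k).image u → x l = 0 := by
    intro l hl
    refine sum_eq_zero fun i hi => if_neg fun h => hl ?_
    exact mem_image.2 ⟨i, hi, h⟩
  -- `b` is the normalised matrix, bounded below by the edge weights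
  let b : ℕ → ℕ → ℝ := fun i j => (T.a (u i) (u j) : ℝ) / (s (u i) * s (u j))
  have hQ : ∑ i, ∑ j, (T.a i j : ℝ) * x i * x j
      = ∑ p ∈ range k, ∑ q ∈ range k, b p q * (y p * y q) := by
    have e : ∀ f : Fin n → ℝ, (∀ l, l ∉ (range k).image u → f l = 0) →
        ∑ l, f l = ∑ p ∈ range k, f (u p) := by
      intro f hf
      rw [← sum_image (f := f) (fun i hi j hj h => inj (mem_range.1 hi) (mem_range.1 hj) h)]
      exact (sum_subset (subset_univ _) fun l _ hl => hf l hl).symm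
    rw [e _ (fun l hl => by simp [hx0 l hl])]
    refine sum_congr rfl fun p hp => ?_
    rw [e _ (fun l hl => by simp [hx0 l hl])]
    refine sum_congr rfl fun q hq => ?_
    rw [hxu p (mem_range.1 hp), hxu q (mem_range.1 hq)]
    have := hs (u p); have := hs (u q)
    simp only [b]; field_simp
  have hb : ∀ p < k, ∀ q < k, (if p = q then -2 else lw E ℓ p q) ≤ b p q := by
    intro p hp q hq
    have := hs (u p); have := hs (u q)
    by_cases hpq : p = q
    · subst hpq
      simp only [if_true, b, (hv p hp).2, Int.cast_mul, Int.cast_neg, Int.cast_ofNat, ← pow_two, hs2]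
      rw [mul_div_assoc, div_self (Int.cast_ne_zero.2 (T.w_pos _).ne')]
      simp
    · have hne : u p ≠ u q := fun h => hpq (inj hp hq h)
      have ha : (0:ℝ) ≤ T.a (u p) (u q) := Int.cast_nonneg (T.offDiag_nonneg _ _ hne)
      simp only [if_neg hpq, b, le_div_iff₀ (mul_pos (hs (u p)) (hs (u q)))]
      unfold lw
      by_cases h1 : (p, q) ∈ E
      · have h2 : (q, p) ∉ E := fun h2 => by
          have a1 := (hE _ h1).1; have a2 := (hE _ h2).1
          dsimp only at a1 a2; omega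
        rw [if_pos h1, if_neg h2, add_zero]
        refine le_of_pow_le_pow_left₀ two_ne_zero ha ?_
        rw [mul_pow, mul_pow, hs2, hs2]
        exact hℓ _ h1
      · by_cases h2 : (q, p) ∈ E
        · rw [if_neg h1, if_pos h2, zero_add]
          refine le_of_pow_le_pow_left₀ two_ne_zero ha ?_
          rw [mul_pow, mul_pow, hs2, hs2, a_symm T (u p) (u q), mul_comm (T.w (u p) : ℝ)]
          exact hℓ _ h2
        · simpa [h1, h2] using ha
  let R : ℕ → ℕ → ℝ := fun p q => (if p = q then -2 else lw E ℓ p q)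
  have hR : ∑ p ∈ range k, ∑ q ∈ range k, R p q * (y p * y q)
      = 2 * (∑ e ∈ E, ℓ e * (y e.1 * y e.2)) - 2 * ∑ i ∈ range k, y i ^ 2 := by
    rw [← sum_lw ℓ y (fun e he => ⟨(hE e he).1.trans (hE e he).2, (hE e he).2⟩)]
    have hlw : ∀ p, lw E ℓ p p = 0 := by
      intro p; unfold lw
      have : (p, p) ∉ E := fun h => lt_irrefl p (hE _ h).1
      simp [this]
    have e : ∀ p q, R p q * (y p * y q)
        = lw E ℓ p q * (y p * y q) - (if p = q then 2 * y p ^ 2 else 0) := by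
      intro p q; by_cases h : p = q
      · subst h; simp [R, hlw]; ring
      · simp [R, h]
    simp only [e, sum_sub_distrib, sum_ite_eq, mul_sum]
    congr 1
    exact sum_congr rfl fun i hi => by simp [hi]
  have hle : ∀ p ∈ range k, ∀ q ∈ range k, R p q * (y p * y q) ≤ b p q * (y p * y q) :=
    fun p hp q hq => mul_le_mul_of_nonneg_right (hb p (mem_range.1 hp) q (mem_range.1 hq))
      (mul_pos (hy p (mem_range.1 hp)) (hy q (mem_range.1 hq))).le
  have hmono : ∑ p ∈ range k, ∑ q ∈ range k, R p q * (y p * y q)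
      ≤ ∑ p ∈ range k, ∑ q ∈ range k, b p q * (y p * y q) :=
    sum_le_sum fun p hp => sum_le_sum (hle p hp)
  have h0 : 0 ≤ ∑ i, ∑ j, (T.a i j : ℝ) * x i * x j := by rw [hQ]; linarith
  obtain ⟨c, hc⟩ := exists_smul_of_form_nonneg T x h0
  have hcm : ∀ i < k, y i = c * ((T.m (u i) : ℝ) * s (u i)) := by
    intro i hi
    have := hxu i hi
    rw [hc, eq_div_iff (hs _).ne'] at this
    rw [← this, mul_assoc]
  have hcne : c ≠ 0 := fun h => by
    have := hcm 0 hk
    rw [h, zero_mul] at this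
    exact (hy 0 hk).ne' this
  have hall : ∀ l, l ∈ (range k).image u := by
    intro l; by_contra hl
    have := hx0 l hl
    rw [hc] at this
    rcases mul_eq_zero.1 this with h | h
    · exact hcne h
    · exact (T.m_pos l).ne' (Int.cast_eq_zero.1 h)
  have hkn : k = n := by
    have h1 : ((range k).image u).card = k := by
      rw [card_image_of_injOn (fun i hi j hj h => inj (mem_range.1 hi) (mem_range.1 hj) h),
        card_range]
    rw [eq_univ_of_forall hall] at h1
    simpa using h1.symm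
  have hQ0 : ∑ i, ∑ j, (T.a i j : ℝ) * x i * x j = 0 := by
    simp only [hc]
    have e : ∀ i, ∑ j, (T.a i j : ℝ) * (c * T.m i) * (c * T.m j)
        = c ^ 2 * T.m i * ((∑ j, T.a i j * T.m j : ℤ) : ℝ) := by
      intro i; push_cast; rw [mul_sum]; exact sum_congr rfl fun j _ => by ring
    simp [e, row_sum T]
  rw [hQ] at hQ0
  refine ⟨hkn, ⟨c, hcm⟩, ?_, by linarith⟩
  intro p hp q hq hpq
  have heq : ∑ p ∈ range k, ∑ q ∈ range k, R p q * (y p * y q)
      = ∑ p ∈ range k, ∑ q ∈ range k, b p q * (y p * y q) := by linarith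
  have h1 := (sum_eq_sum_iff_of_le (fun p hp => sum_le_sum (hle p hp))).1 heq p (mem_range.2 hp)
  have h2 := (sum_eq_sum_iff_of_le (hle p (mem_range.2 hp))).1 h1 q (mem_range.2 hq)
  have h3 := mul_right_cancel₀ (mul_pos (hy p hp) (hy q hq)).ne' h2
  simp only [R, b, if_neg hpq] at h3
  rw [h3, div_mul_cancel₀ _ (mul_pos (hs (u p)) (hs (u q))).ne']

/-- No configuration with non-negative form lives on a proper subset of the indices. -/
theorem no_config {k : ℕ} (hk : 0 < k) (hkn : k < n) (u : ℕ → Fin n)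
    (hu : Set.InjOn u (Set.Iio k)) (hv : ∀ i < k, T.IsMinusTwo (u i)) (E : Finset (ℕ × ℕ))
    (ℓ : ℕ × ℕ → ℝ) (y : ℕ → ℝ) (hy : ∀ i < k, 0 < y i) (hE : ∀ e ∈ E, e.1 < e.2 ∧ e.2 < k)
   
    (hℓ : ∀ e ∈ E, ℓ e ^ 2 * ((T.w (u e.1) : ℝ) * T.w (u e.2)) ≤ (T.a (u e.1) (u e.2) : ℝ) ^ 2)
    (hsum : ∑ i ∈ range k, y i ^ 2 ≤ ∑ e ∈ E, ℓ e * (y e.1 * y e.2)) : False :=
  hkn.ne (config_eq T hk u hu hv E ℓ y hy hE hℓ hsum).1

end Groth.L26.NumType
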