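import Groth.Agent.L26.NumType.Affine

/-! The exceptional affine shapes. -/

namespace Groth.L26.NumType

open Finset Models Models.NumericalType

variable {n : ℕ} {T : NumericalType n}

def E6M (i : ℕ) : ℤ := if i = 0 then 1 else if i = 1 then 2 else if i = 2 then 3 else if i = 3 then 1 else if i = 4 then 2 else if i = 5 then 1 else 2
def E6A (i j : ℕ) : ℤ := if (i = 0 ∧ j = 1) ∨ (i = 1 ∧ j = 2) ∨ (i = 3 ∧ j = 4) ∨ (i = 2 ∧ j = 4) ∨ (i = 5 ∧ j = 6) ∨ (i = 2 ∧ j = 6) then 1 else 0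

theorem E6_match (hv : ∀ i, T.IsMinusTwo i) {u : ℕ → Fin n} (hu : Set.InjOn u (Set.Iio 7))
    (h01 : T.a (u 0) (u 1) ≠ 0)
    (h12 : T.a (u 1) (u 2) ≠ 0)
    (h34 : T.a (u 3) (u 4) ≠ 0)
    (h24 : T.a (u 2) (u 4) ≠ 0)
    (h56 : T.a (u 5) (u 6) ≠ 0)
    (h26 : T.a (u 2) (u 6) ≠ 0) :
    7 = n ∧ Matches T E6M cycM E6A := by
  let E : Finset (ℕ × ℕ) := {(0, 1), (1, 2), (3, 4), (2, 4), (5, 6), (2, 6)}
  let y : ℕ → ℝ := fun i => if i = 0 then 1 else if i = 1 then 2 else if i = 2 then 3 else if i = 3 then 1 else if i = 4 then 2 else if i = 5 then 1 else 2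
  have hE : ∀ e ∈ E, e.1 < e.2 ∧ e.2 < 7 := by decide
  have hℓ : ∀ e ∈ E, (fun _ : ℕ × ℕ => (1:ℝ)) e ^ 2 * ((T.w (u e.1) : ℝ) * T.w (u e.2))
      ≤ (T.a (u e.1) (u e.2) : ℝ) ^ 2 := by
    simp only [E, mem_insert, mem_singleton, forall_eq_or_imp, forall_eq]
    exact ⟨bound_one T (ne_of_injOn hu (show 0 < 7 by omega) (show 1 < 7 by omega) (by omega)) h01, bound_one T (ne_of_injOn hu (show 1 < 7 by omega) (show 2 < 7 by omega) (by omega)) h12, bound_one T (ne_of_injOn hu (show 3 < 7 by omega) (show 4 < 7 by omega) (by omega)) h34, bound_one T (ne_of_injOn hu (show 2 < 7 by omega) (show 4 < 7 by omega) (by omega)) h24, bound_one T (ne_of_injOn hu (show 5 < 7 by omega) (show 6 < 7 by omega) (by omega)) h56, bound_one T (ne_of_injOn hu (show 2 < 7 by omega) (show 6 < 7 by omega) (by omega)) h26⟩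
  have hy0 : ∀ i, 0 < y i := fun i => by simp only [y]; split_ifs <;> norm_num
  have hsum : ∑ i ∈ range 7, y i ^ 2
      ≤ ∑ e ∈ E, (fun _ : ℕ × ℕ => (1:ℝ)) e * (y e.1 * y e.2) := by
    simp [E, y, Finset.sum_range_succ]; norm_num
  obtain ⟨hkn, hs⟩ := config_simple (by omega) hu hv (fun i _ => hy0 i) hE hℓ hsum
  have W0 : T.w (u 0) = T.w (u 0) := rfl
  have W1 : T.w (u 1) = T.w (u 0) := (hs 0 1 (by decide) rfl).2.trans W0
  have W2 : T.w (u 2) = T.w (u 0) := (hs 1 2 (by decide) rfl).2.trans W1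
  have W4 : T.w (u 4) = T.w (u 0) := (hs 2 4 (by decide) rfl).2.trans W2
  have W6 : T.w (u 6) = T.w (u 0) := (hs 2 6 (by decide) rfl).2.trans W2
  have W3 : T.w (u 3) = T.w (u 0) := (hs 3 4 (by decide) rfl).2.symm.trans W4
  have W5 : T.w (u 5) = T.w (u 0) := (hs 5 6 (by decide) rfl).2.symm.trans W6
  refine ⟨hkn, (match_of_config hu hv E6M cycM E6A 1 one_pos (r := 0) (by omega) rfl
    (T.w (u 0)) (fun i hi => ?_) (fun i hi => ⟨hy0 i, ?_⟩) hE hℓ (fun i j hij hj => ?_) hsum).2⟩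
  · rw [cycM, one_mul]; interval_cases i <;> assumption
  · interval_cases i <;> norm_num [E6M, cycM, y]
  · simp only [lw, E, mem_insert, mem_singleton, Prod.mk.injEq, cycM, E6A]
    split_ifs <;> first | omega | norm_num

def E7M (i : ℕ) : ℤ := if i = 0 then 1 else if i = 1 then 2 else if i = 2 then 3 else if i = 3 then 4 else if i = 4 then 3 else if i = 5 then 2 else if i = 6 then 1 else 2
def E7A (i j : ℕ) : ℤ := if (i = 0 ∧ j = 1) ∨ (i = 1 ∧ j = 2) ∨ (i = 2 ∧ j = 3) ∨ (i = 3 ∧ j = 4) ∨ (i = 4 ∧ j = 5) ∨ (i = 5 ∧ j = 6) ∨ (i = 3 ∧ j = 7) then 1 else 0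

theorem E7_match (hv : ∀ i, T.IsMinusTwo i) {u : ℕ → Fin n} (hu : Set.InjOn u (Set.Iio 8))
    (h01 : T.a (u 0) (u 1) ≠ 0)
    (h12 : T.a (u 1) (u 2) ≠ 0)
    (h23 : T.a (u 2) (u 3) ≠ 0)
    (h34 : T.a (u 3) (u 4) ≠ 0)
    (h45 : T.a (u 4) (u 5) ≠ 0)
    (h56 : T.a (u 5) (u 6) ≠ 0)
    (h37 : T.a (u 3) (u 7) ≠ 0) :
    8 = n ∧ Matches T E7M cycM E7A := by
  let E : Finset (ℕ × ℕ) := {(0, 1), (1, 2), (2, 3), (3, 4), (4, 5), (5, 6), (3, 7)}
  let y : ℕ → ℝ := fun i => if i = 0 then 1 else if i = 1 then 2 else if i = 2 then 3 else if i = 3 then 4 else if i = 4 then 3 else if i = 5 then 2 else if i = 6 then 1 else 2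
  have hE : ∀ e ∈ E, e.1 < e.2 ∧ e.2 < 8 := by decide
  have hℓ : ∀ e ∈ E, (fun _ : ℕ × ℕ => (1:ℝ)) e ^ 2 * ((T.w (u e.1) : ℝ) * T.w (u e.2))
      ≤ (T.a (u e.1) (u e.2) : ℝ) ^ 2 := by
    simp only [E, mem_insert, mem_singleton, forall_eq_or_imp, forall_eq]
    exact ⟨bound_one T (ne_of_injOn hu (show 0 < 8 by omega) (show 1 < 8 by omega) (by omega)) h01, bound_one T (ne_of_injOn hu (show 1 < 8 by omega) (show 2 < 8 by omega) (by omega)) h12, bound_one T (ne_of_injOn hu (show 2 < 8 by omega) (show 3 < 8 by omega) (by omega)) h23, bound_one T (ne_of_injOn hu (show 3 < 8 by omega) (show 4 < 8 by omega) (by omega)) h34, bound_one T (ne_of_injOn hu (show 4 < 8 by omega) (show 5 < 8 by omega) (by omega)) h45, bound_one T (ne_of_injOn hu (show 5 < 8 by omega) (show 6 < 8 by omega) (by omega)) h56, bound_one T (ne_of_injOn hu (show 3 < 8 by omega) (show 7 < 8 by omega) (by omega)) h37⟩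
  have hy0 : ∀ i, 0 < y i := fun i => by simp only [y]; split_ifs <;> norm_num
  have hsum : ∑ i ∈ range 8, y i ^ 2
      ≤ ∑ e ∈ E, (fun _ : ℕ × ℕ => (1:ℝ)) e * (y e.1 * y e.2) := by
    simp [E, y, Finset.sum_range_succ]; norm_num
  obtain ⟨hkn, hs⟩ := config_simple (by omega) hu hv (fun i _ => hy0 i) hE hℓ hsum
  have W0 : T.w (u 0) = T.w (u 0) := rfl
  have W1 : T.w (u 1) = T.w (u 0) := (hs 0 1 (by decide) rfl).2.trans W0
  have W2 : T.w (u 2) = T.w (u 0) := (hs 1 2 (by decide) rfl).2.trans W1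
  have W3 : T.w (u 3) = T.w (u 0) := (hs 2 3 (by decide) rfl).2.trans W2
  have W4 : T.w (u 4) = T.w (u 0) := (hs 3 4 (by decide) rfl).2.trans W3
  have W5 : T.w (u 5) = T.w (u 0) := (hs 4 5 (by decide) rfl).2.trans W4
  have W6 : T.w (u 6) = T.w (u 0) := (hs 5 6 (by decide) rfl).2.trans W5
  have W7 : T.w (u 7) = T.w (u 0) := (hs 3 7 (by decide) rfl).2.trans W3
  refine ⟨hkn, (match_of_config hu hv E7M cycM E7A 1 one_pos (r := 0) (by omega) rfl
    (T.w (u 0)) (fun i hi => ?_) (fun i hi => ⟨hy0 i, ?_⟩) hE hℓ (fun i j hij hj => ?_) hsum).2⟩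
  · rw [cycM, one_mul]; interval_cases i <;> assumption
  · interval_cases i <;> norm_num [E7M, cycM, y]
  · simp only [lw, E, mem_insert, mem_singleton, Prod.mk.injEq, cycM, E7A]
    split_ifs <;> first | omega | norm_num

def E8M (i : ℕ) : ℤ := if i = 0 then 1 else if i = 1 then 2 else if i = 2 then 3 else if i = 3 then 4 else if i = 4 then 5 else if i = 5 then 6 else if i = 6 then 4 else if i = 7 then 2 else 3
def E8A (i j : ℕ) : ℤ := if (i = 0 ∧ j = 1) ∨ (i = 1 ∧ j = 2) ∨ (i = 2 ∧ j = 3) ∨ (i = 3 ∧ j = 4) ∨ (i = 4 ∧ j = 5) ∨ (i = 5 ∧ j = 6) ∨ (i = 6 ∧ j = 7) ∨ (i = 5 ∧ j = 8) then 1 else 0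

theorem E8_match (hv : ∀ i, T.IsMinusTwo i) {u : ℕ → Fin n} (hu : Set.InjOn u (Set.Iio 9))
    (h01 : T.a (u 0) (u 1) ≠ 0)
    (h12 : T.a (u 1) (u 2) ≠ 0)
    (h23 : T.a (u 2) (u 3) ≠ 0)
    (h34 : T.a (u 3) (u 4) ≠ 0)
    (h45 : T.a (u 4) (u 5) ≠ 0)
    (h56 : T.a (u 5) (u 6) ≠ 0)
    (h67 : T.a (u 6) (u 7) ≠ 0)
    (h58 : T.a (u 5) (u 8) ≠ 0) :
    9 = n ∧ Matches T E8M cycM E8A := by
  let E : Finset (ℕ × ℕ) := {(0, 1), (1, 2), (2, 3), (3, 4), (4, 5), (5, 6), (6, 7), (5, 8)}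
  let y : ℕ → ℝ := fun i => if i = 0 then 1 else if i = 1 then 2 else if i = 2 then 3 else if i = 3 then 4 else if i = 4 then 5 else if i = 5 then 6 else if i = 6 then 4 else if i = 7 then 2 else 3
  have hE : ∀ e ∈ E, e.1 < e.2 ∧ e.2 < 9 := by decide
  have hℓ : ∀ e ∈ E, (fun _ : ℕ × ℕ => (1:ℝ)) e ^ 2 * ((T.w (u e.1) : ℝ) * T.w (u e.2))
      ≤ (T.a (u e.1) (u e.2) : ℝ) ^ 2 := by
    simp only [E, mem_insert, mem_singleton, forall_eq_or_imp, forall_eq]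
    exact ⟨bound_one T (ne_of_injOn hu (show 0 < 9 by omega) (show 1 < 9 by omega) (by omega)) h01, bound_one T (ne_of_injOn hu (show 1 < 9 by omega) (show 2 < 9 by omega) (by omega)) h12, bound_one T (ne_of_injOn hu (show 2 < 9 by omega) (show 3 < 9 by omega) (by omega)) h23, bound_one T (ne_of_injOn hu (show 3 < 9 by omega) (show 4 < 9 by omega) (by omega)) h34, bound_one T (ne_of_injOn hu (show 4 < 9 by omega) (show 5 < 9 by omega) (by omega)) h45, bound_one T (ne_of_injOn hu (show 5 < 9 by omega) (show 6 < 9 by omega) (by omega)) h56, bound_one T (ne_of_injOn hu (show 6 < 9 by omega) (show 7 < 9 by omega) (by omega)) h67, bound_one T (ne_of_injOn hu (show 5 < 9 by omega) (show 8 < 9 by omega) (by omega)) h58⟩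
  have hy0 : ∀ i, 0 < y i := fun i => by simp only [y]; split_ifs <;> norm_num
  have hsum : ∑ i ∈ range 9, y i ^ 2
      ≤ ∑ e ∈ E, (fun _ : ℕ × ℕ => (1:ℝ)) e * (y e.1 * y e.2) := by
    simp [E, y, Finset.sum_range_succ]; norm_num
  obtain ⟨hkn, hs⟩ := config_simple (by omega) hu hv (fun i _ => hy0 i) hE hℓ hsum
  have W0 : T.w (u 0) = T.w (u 0) := rfl
  have W1 : T.w (u 1) = T.w (u 0) := (hs 0 1 (by decide) rfl).2.trans W0
  have W2 : T.w (u 2) = T.w (u 0) := (hs 1 2 (by decide) rfl).2.trans W1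
  have W3 : T.w (u 3) = T.w (u 0) := (hs 2 3 (by decide) rfl).2.trans W2
  have W4 : T.w (u 4) = T.w (u 0) := (hs 3 4 (by decide) rfl).2.trans W3
  have W5 : T.w (u 5) = T.w (u 0) := (hs 4 5 (by decide) rfl).2.trans W4
  have W6 : T.w (u 6) = T.w (u 0) := (hs 5 6 (by decide) rfl).2.trans W5
  have W7 : T.w (u 7) = T.w (u 0) := (hs 6 7 (by decide) rfl).2.trans W6
  have W8 : T.w (u 8) = T.w (u 0) := (hs 5 8 (by decide) rfl).2.trans W5
  refine ⟨hkn, (match_of_config hu hv E8M cycM E8A 1 one_pos (r := 0) (by omega) rfl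
    (T.w (u 0)) (fun i hi => ?_) (fun i hi => ⟨hy0 i, ?_⟩) hE hℓ (fun i j hij hj => ?_) hsum).2⟩
  · rw [cycM, one_mul]; interval_cases i <;> assumption
  · interval_cases i <;> norm_num [E8M, cycM, y]
  · simp only [lw, E, mem_insert, mem_singleton, Prod.mk.injEq, cycM, E8A]
    split_ifs <;> first | omega | norm_num

def F4aM (i : ℕ) : ℤ := if i = 0 then 1 else if i = 1 then 2 else if i = 2 then 3 else if i = 3 then 2 else 1
def F4aW (i : ℕ) : ℤ := if i = 0 then 1 else if i = 1 then 1 else if i = 2 then 1 else if i = 3 then 2 else 2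
def F4aA (i j : ℕ) : ℤ := if i = 0 ∧ j = 1 then 1 else if i = 1 ∧ j = 2 then 1 else if i = 2 ∧ j = 3 then 2 else if i = 3 ∧ j = 4 then 2 else 0

theorem F4a_match (hv : ∀ i, T.IsMinusTwo i) {u : ℕ → Fin n} (hu : Set.InjOn u (Set.Iio 5))
    (hp : ∀ i < 4, T.a (u i) (u (i + 1)) ≠ 0) (hd : Double T (u 2) (u 3))
    (hor : T.w (u 3) = 2 * T.w (u 2)) :
    5 = n ∧ Matches T F4aM F4aW F4aA := by
  let E : Finset (ℕ × ℕ) := {(0, 1), (1, 2), (2, 3), (3, 4)}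
  let ℓ : ℕ × ℕ → ℝ := fun e => if e.1 = 2 then √2 else 1
  let y : ℕ → ℝ := fun i => if i < 3 then (i : ℝ) + 1 else if i = 3 then 2 * √2 else √2
  have hE : ∀ e ∈ E, e.1 < e.2 ∧ e.2 < 5 := by decide
  have hℓ : ∀ e ∈ E, ℓ e ^ 2 * ((T.w (u e.1) : ℝ) * T.w (u e.2)) ≤ (T.a (u e.1) (u e.2) : ℝ) ^ 2 := by
    simp only [E, mem_insert, mem_singleton, forall_eq_or_imp, forall_eq]
    exact ⟨bound_of_kind (Or.inl ⟨if_neg (by omega), ne_of_injOn hu (show 0 < 5 by omega) (show 1 < 5 by omega) (by omega), hp 0 (by omega)⟩), bound_of_kind (Or.inl ⟨if_neg (by omega), ne_of_injOn hu (show 1 < 5 by omega) (show 2 < 5 by omega) (by omega), hp 1 (by omega)⟩), bound_of_kind (Or.inr (Or.inl ⟨if_pos rfl, hd⟩)), bound_of_kind (Or.inl ⟨if_neg (by omega), ne_of_injOn hu (show 3 < 5 by omega) (show 4 < 5 by omega) (by omega), hp 3 (by omega)⟩)⟩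
  have s : (√2 : ℝ) * √2 = 2 := Real.mul_self_sqrt (by norm_num)
  have hy0 : ∀ i, 0 < y i := fun i => by simp only [y]; split_ifs <;> positivity
  have hsum : ∑ i ∈ range 5, y i ^ 2 ≤ ∑ e ∈ E, ℓ e * (y e.1 * y e.2) := by
    simp [E, y, ℓ, Finset.sum_range_succ]; nlinarith [s]
  obtain ⟨hkn, hs⟩ := config_simple (by omega) hu hv (fun i _ => hy0 i) hE hℓ hsum
  have W2 : T.w (u 2) = 1 * T.w (u 2) := by omega
  have W3 : T.w (u 3) = 2 * T.w (u 2) := by omega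
  have W1 : T.w (u 1) = 1 * T.w (u 2) := by have := (hs 1 2 (by decide) (if_neg (by omega))).2; omega
  have W0 : T.w (u 0) = 1 * T.w (u 2) := by have := (hs 0 1 (by decide) (if_neg (by omega))).2; omega
  have W4 : T.w (u 4) = 2 * T.w (u 2) := by have := (hs 3 4 (by decide) (if_neg (by omega))).2; omega
  refine ⟨hkn, (match_of_config hu hv F4aM F4aW F4aA 1 (by norm_num) (r := 0) (by omega) rfl
    (T.w (u 2)) (fun i hi => ?_) (fun i hi => ⟨hy0 i, ?_⟩) hE hℓ (fun i j hij hj => ?_) hsum).2⟩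
  · interval_cases i <;> simp only [F4aW] <;> norm_num <;> omega
  · interval_cases i <;> norm_num [F4aM, F4aW, y, mul_pow]
  · interval_cases j <;> interval_cases i <;> norm_num [lw, E, ℓ, F4aW, F4aA]

def F4bM (i : ℕ) : ℤ := if i = 0 then 1 else if i = 1 then 2 else if i = 2 then 3 else if i = 3 then 4 else 2
def F4bW (i : ℕ) : ℤ := if i = 0 then 2 else if i = 1 then 2 else if i = 2 then 2 else if i = 3 then 1 else 1
def F4bA (i j : ℕ) : ℤ := if i = 0 ∧ j = 1 then 2 else if i = 1 ∧ j = 2 then 2 else if i = 2 ∧ j = 3 then 2 else if i = 3 ∧ j = 4 then 1 else 0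

theorem F4b_match (hv : ∀ i, T.IsMinusTwo i) {u : ℕ → Fin n} (hu : Set.InjOn u (Set.Iio 5))
    (hp : ∀ i < 4, T.a (u i) (u (i + 1)) ≠ 0) (hd : Double T (u 2) (u 3))
    (hor : T.w (u 2) = 2 * T.w (u 3)) :
    5 = n ∧ Matches T F4bM F4bW F4bA := by
  let E : Finset (ℕ × ℕ) := {(0, 1), (1, 2), (2, 3), (3, 4)}
  let ℓ : ℕ × ℕ → ℝ := fun e => if e.1 = 2 then √2 else 1
  let y : ℕ → ℝ := fun i => if i < 3 then (i : ℝ) + 1 else if i = 3 then 2 * √2 else √2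
  have hE : ∀ e ∈ E, e.1 < e.2 ∧ e.2 < 5 := by decide
  have hℓ : ∀ e ∈ E, ℓ e ^ 2 * ((T.w (u e.1) : ℝ) * T.w (u e.2)) ≤ (T.a (u e.1) (u e.2) : ℝ) ^ 2 := by
    simp only [E, mem_insert, mem_singleton, forall_eq_or_imp, forall_eq]
    exact ⟨bound_of_kind (Or.inl ⟨if_neg (by omega), ne_of_injOn hu (show 0 < 5 by omega) (show 1 < 5 by omega) (by omega), hp 0 (by omega)⟩), bound_of_kind (Or.inl ⟨if_neg (by omega), ne_of_injOn hu (show 1 < 5 by omega) (show 2 < 5 by omega) (by omega), hp 1 (by omega)⟩), bound_of_kind (Or.inr (Or.inl ⟨if_pos rfl, hd⟩)), bound_of_kind (Or.inl ⟨if_neg (by omega), ne_of_injOn hu (show 3 < 5 by omega) (show 4 < 5 by omega) (by omega), hp 3 (by omega)⟩)⟩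
  have s : (√2 : ℝ) * √2 = 2 := Real.mul_self_sqrt (by norm_num)
  have hy0 : ∀ i, 0 < y i := fun i => by simp only [y]; split_ifs <;> positivity
  have hsum : ∑ i ∈ range 5, y i ^ 2 ≤ ∑ e ∈ E, ℓ e * (y e.1 * y e.2) := by
    simp [E, y, ℓ, Finset.sum_range_succ]; nlinarith [s]
  obtain ⟨hkn, hs⟩ := config_simple (by omega) hu hv (fun i _ => hy0 i) hE hℓ hsum
  have W3 : T.w (u 3) = 1 * T.w (u 3) := by omega
  have W2 : T.w (u 2) = 2 * T.w (u 3) := by omega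
  have W1 : T.w (u 1) = 2 * T.w (u 3) := by have := (hs 1 2 (by decide) (if_neg (by omega))).2; omega
  have W0 : T.w (u 0) = 2 * T.w (u 3) := by have := (hs 0 1 (by decide) (if_neg (by omega))).2; omega
  have W4 : T.w (u 4) = 1 * T.w (u 3) := by have := (hs 3 4 (by decide) (if_neg (by omega))).2; omega
  refine ⟨hkn, (match_of_config hu hv F4bM F4bW F4bA (1 / 2) (by norm_num) (r := 0) (by omega) rfl
    (T.w (u 3)) (fun i hi => ?_) (fun i hi => ⟨hy0 i, ?_⟩) hE hℓ (fun i j hij hj => ?_) hsum).2⟩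
  · interval_cases i <;> simp only [F4bW] <;> norm_num <;> omega
  · interval_cases i <;> norm_num [F4bM, F4bW, y, mul_pow]
  · interval_cases j <;> interval_cases i <;> norm_num [lw, E, ℓ, F4bW, F4bA]

def G2aM (i : ℕ) : ℤ := if i = 0 then 1 else if i = 1 then 2 else 1
def G2aW (i : ℕ) : ℤ := if i = 0 then 1 else if i = 1 then 1 else 3
def G2aA (i j : ℕ) : ℤ := if i = 0 ∧ j = 1 then 1 else if i = 1 ∧ j = 2 then 3 else 0

theorem G2a_match (hv : ∀ i, T.IsMinusTwo i) {u : ℕ → Fin n} (hu : Set.InjOn u (Set.Iio 3))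
    (hp : ∀ i < 2, T.a (u i) (u (i + 1)) ≠ 0) (hd : Triple T (u 1) (u 2))
    (hor : T.w (u 2) = 3 * T.w (u 1)) :
    3 = n ∧ Matches T G2aM G2aW G2aA := by
  let E : Finset (ℕ × ℕ) := {(0, 1), (1, 2)}
  let ℓ : ℕ × ℕ → ℝ := fun e => if e.1 = 1 then √3 else 1
  let y : ℕ → ℝ := fun i => if i = 0 then 1 else if i = 1 then 2 else √3
  have hE : ∀ e ∈ E, e.1 < e.2 ∧ e.2 < 3 := by decide
  have hℓ : ∀ e ∈ E, ℓ e ^ 2 * ((T.w (u e.1) : ℝ) * T.w (u e.2)) ≤ (T.a (u e.1) (u e.2) : ℝ) ^ 2 := by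
    simp only [E, mem_insert, mem_singleton, forall_eq_or_imp, forall_eq]
    exact ⟨bound_of_kind (Or.inl ⟨if_neg (by omega), ne_of_injOn hu (show 0 < 3 by omega) (show 1 < 3 by omega) (by omega), hp 0 (by omega)⟩), bound_of_kind (Or.inr (Or.inr ⟨if_pos rfl, hd⟩))⟩
  have s : (√3 : ℝ) * √3 = 3 := Real.mul_self_sqrt (by norm_num)
  have hy0 : ∀ i, 0 < y i := fun i => by simp only [y]; split_ifs <;> positivity
  have hsum : ∑ i ∈ range 3, y i ^ 2 ≤ ∑ e ∈ E, ℓ e * (y e.1 * y e.2) := by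
    simp [E, y, ℓ, Finset.sum_range_succ]; nlinarith [s]
  obtain ⟨hkn, hs⟩ := config_simple (by omega) hu hv (fun i _ => hy0 i) hE hℓ hsum
  have W1 : T.w (u 1) = 1 * T.w (u 1) := by omega
  have W2 : T.w (u 2) = 3 * T.w (u 1) := by omega
  have W0 : T.w (u 0) = 1 * T.w (u 1) := by have := (hs 0 1 (by decide) (if_neg (by omega))).2; omega
  refine ⟨hkn, (match_of_config hu hv G2aM G2aW G2aA 1 (by norm_num) (r := 0) (by omega) rfl
    (T.w (u 1)) (fun i hi => ?_) (fun i hi => ⟨hy0 i, ?_⟩) hE hℓ (fun i j hij hj => ?_) hsum).2⟩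
  · interval_cases i <;> simp only [G2aW] <;> norm_num <;> omega
  · interval_cases i <;> norm_num [G2aM, G2aW, y, mul_pow]
  · interval_cases j <;> interval_cases i <;> norm_num [lw, E, ℓ, G2aW, G2aA]

def G2bM (i : ℕ) : ℤ := if i = 0 then 1 else if i = 1 then 2 else 3
def G2bW (i : ℕ) : ℤ := if i = 0 then 3 else if i = 1 then 3 else 1
def G2bA (i j : ℕ) : ℤ := if i = 0 ∧ j = 1 then 3 else if i = 1 ∧ j = 2 then 3 else 0

theorem G2b_match (hv : ∀ i, T.IsMinusTwo i) {u : ℕ → Fin n} (hu : Set.InjOn u (Set.Iio 3))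
    (hp : ∀ i < 2, T.a (u i) (u (i + 1)) ≠ 0) (hd : Triple T (u 1) (u 2))
    (hor : T.w (u 1) = 3 * T.w (u 2)) :
    3 = n ∧ Matches T G2bM G2bW G2bA := by
  let E : Finset (ℕ × ℕ) := {(0, 1), (1, 2)}
  let ℓ : ℕ × ℕ → ℝ := fun e => if e.1 = 1 then √3 else 1
  let y : ℕ → ℝ := fun i => if i = 0 then 1 else if i = 1 then 2 else √3
  have hE : ∀ e ∈ E, e.1 < e.2 ∧ e.2 < 3 := by decide
  have hℓ : ∀ e ∈ E, ℓ e ^ 2 * ((T.w (u e.1) : ℝ) * T.w (u e.2)) ≤ (T.a (u e.1) (u e.2) : ℝ) ^ 2 := by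
    simp only [E, mem_insert, mem_singleton, forall_eq_or_imp, forall_eq]
    exact ⟨bound_of_kind (Or.inl ⟨if_neg (by omega), ne_of_injOn hu (show 0 < 3 by omega) (show 1 < 3 by omega) (by omega), hp 0 (by omega)⟩), bound_of_kind (Or.inr (Or.inr ⟨if_pos rfl, hd⟩))⟩
  have s : (√3 : ℝ) * √3 = 3 := Real.mul_self_sqrt (by norm_num)
  have hy0 : ∀ i, 0 < y i := fun i => by simp only [y]; split_ifs <;> positivity
  have hsum : ∑ i ∈ range 3, y i ^ 2 ≤ ∑ e ∈ E, ℓ e * (y e.1 * y e.2) := by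
    simp [E, y, ℓ, Finset.sum_range_succ]; nlinarith [s]
  obtain ⟨hkn, hs⟩ := config_simple (by omega) hu hv (fun i _ => hy0 i) hE hℓ hsum
  have W2 : T.w (u 2) = 1 * T.w (u 2) := by omega
  have W1 : T.w (u 1) = 3 * T.w (u 2) := by omega
  have W0 : T.w (u 0) = 3 * T.w (u 2) := by have := (hs 0 1 (by decide) (if_neg (by omega))).2; omega
  refine ⟨hkn, (match_of_config hu hv G2bM G2bW G2bA (1 / 3) (by norm_num) (r := 0) (by omega) rfl
    (T.w (u 2)) (fun i hi => ?_) (fun i hi => ⟨hy0 i, ?_⟩) hE hℓ (fun i j hij hj => ?_) hsum).2⟩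
  · interval_cases i <;> simp only [G2bW] <;> norm_num <;> omega
  · interval_cases i <;> norm_num [G2bM, G2bW, y, mul_pow]
  · interval_cases j <;> interval_cases i <;> norm_num [lw, E, ℓ, G2bW, G2bA]

end Groth.L26.NumType
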