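import Groth.Agent.L26.NumType.Exceptional

/-! Classification of the minimal numerical types of genus one. -/

namespace Groth.L26.NumType

open Finset Models Models.NumericalType

variable {n : ℕ} {T : NumericalType n}

/-- The list of affine shapes. -/
def Fam (T : NumericalType n) : Prop :=
  Matches T cycM cycM (cycA n) ∨ Matches T (upM n) (upW n) (upA n) ∨
  Matches T midM (midW n) (midA n) ∨ Matches T (dnM n) (dnW n) (dnA n) ∨
  (4 ≤ n ∧ Matches T (duM n) duW (duA n)) ∨ (4 ≤ n ∧ Matches T (ddnM n) ddnW (ddnA n)) ∨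
  (5 ≤ n ∧ Matches T (ffM n) cycM (ffA n)) ∨
  (n = 3 ∧ (Matches T G2aM G2aW G2aA ∨ Matches T G2bM G2bW G2bA)) ∨
  (n = 5 ∧ (Matches T F4aM F4aW F4aA ∨ Matches T F4bM F4bW F4bA)) ∨
  (n = 7 ∧ Matches T E6M cycM E6A) ∨ (n = 8 ∧ Matches T E7M cycM E7A) ∨
  (n = 9 ∧ Matches T E8M cycM E8A)

theorem row_support {i : Fin n} (hi : T.IsMinusTwo i) (S : Finset (Fin n)) (hS : i ∉ S)
    (h0 : ∀ j, j ≠ i → j ∉ S → T.a i j = 0) :
    ∑ j ∈ S, T.a i j * T.m j = 2 * T.w i * T.m i := by
  have h := row_sum_erase T i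
  rw [hi.2] at h
  have e : ∑ j ∈ univ.erase i, T.a i j * T.m j = 2 * T.w i * T.m i := by linarith
  rw [← e]
  refine sum_subset (fun j hj => mem_erase.2 ⟨fun e => hS (e ▸ hj), mem_univ j⟩) fun j hj hjS => ?_
  rw [h0 j (mem_erase.1 hj).1 hjS, zero_mul]

theorem IsPath.sub {u : ℕ → Fin n} {t : ℕ} (h : IsPath T u t) (p k : ℕ) (hpk : p + k ≤ t) :
    IsPath T (fun l => u (p + l)) k :=
  ⟨injOn_comp h.inj _ (fun l hl => by omega) (fun a _ b _ e => Nat.add_left_cancel e),
    fun l hl => h.minusTwo _ (by omega), fun l hl => h.adj (p + l) (by omega)⟩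

theorem IsPath.le {u : ℕ → Fin n} {t : ℕ} (h : IsPath T u t) : t ≤ n := by
  have := card_le_card_of_injOn (s := range t) (t := (univ : Finset (Fin n))) u
    (fun i _ => mem_univ _) (fun i hi j hj e => h.inj (mem_range.1 hi) (mem_range.1 hj) e)
  simpa using this

theorem IsPath.cons {u : ℕ → Fin n} {t : ℕ} (h : IsPath T u t) (ht : 0 < t) {x : Fin n}
    (hx : T.IsMinusTwo x) (hnot : ∀ i < t, u i ≠ x) (ha : T.a x (u 0) ≠ 0) :
    IsPath T (fun l => if l = 0 then x else u (l - 1)) (t + 1) := by
  refine ⟨fun a ha b hb e => ?_, fun l hl => ?_, fun l hl => ?_⟩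
  · simp only [Set.mem_Iio] at ha hb
    (try dsimp only at e)
    split_ifs at e with h1 h2 h2
    · omega
    · exact absurd e.symm (hnot _ (by omega))
    · exact absurd e (hnot _ (by omega))
    · have := h.inj (Set.mem_Iio.2 (by omega)) (Set.mem_Iio.2 (by omega)) e; omega
  · (try dsimp only); split_ifs with h1
    · exact hx
    · exact h.minusTwo _ (by omega)
  · (try dsimp only)
    rw [if_neg (by omega : ¬ l + 1 = 0), show l + 1 - 1 = l by omega]
    split_ifs with h1
    · rw [h1]; exact ha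
    · have := h.adj (l - 1) (by omega)
      rwa [show l - 1 + 1 = l by omega] at this

theorem exists_longest (hv : ∀ i, T.IsMinusTwo i) (hn : 3 ≤ n) :
    ∃ (t : ℕ) (u : ℕ → Fin n), 3 ≤ t ∧ IsPath T u t ∧ ∀ u', ¬ IsPath T u' (t + 1) := by
  classical
  let P : ℕ → Prop := fun t => ∃ u, IsPath T u t
  have h3 : P 3 := by
    obtain ⟨j, hj0, hj⟩ := exists_neighbour T (by omega) ⟨0, T.pos⟩
    let i0 : Fin n := ⟨0, T.pos⟩
    have hI : ({i0, j} : Finset (Fin n)) ≠ univ := fun h => by
      have h1 := congrArg Finset.card h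
      rw [card_univ, Fintype.card_fin] at h1
      have := Finset.card_le_two (a := i0) (b := j)
      omega
    obtain ⟨a, ha, b, hb, hab⟩ := T.connected {i0, j} ⟨i0, by simp⟩ hI
    simp only [mem_insert, mem_singleton, not_or] at ha hb
    have hpath : ∀ p q : Fin n, p ≠ q → T.a p q ≠ 0 →
        IsPath T (fun l => if l = 0 then p else q) 2 := by
      intro p q hne h
      refine ⟨fun a ha b hb e => ?_, fun _ _ => hv _, fun i hi => ?_⟩
      · simp only [Set.mem_Iio] at ha hb
        interval_cases a <;> interval_cases b <;> simp_all [eq_comm]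
      · obtain rfl : i = 0 := by omega
        simpa using h
    rcases ha with rfl | rfl
    · refine ⟨_, (hpath i0 j (Ne.symm hj0) hj.ne').cons (by omega) (hv b) ?_ ?_⟩
      · intro i hi; interval_cases i
        · simpa using Ne.symm hb.1
        · simpa using Ne.symm hb.2
      · rw [a_symm T]; simpa using hab
    · refine ⟨_, (hpath a i0 hj0 (by rw [a_symm T]; exact hj.ne')).cons (by omega) (hv b) ?_ ?_⟩
      · intro i hi; interval_cases i
        · simpa using Ne.symm hb.2
        · simpa using Ne.symm hb.1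
      · rw [a_symm T]; simpa using hab
  obtain ⟨u, hu⟩ := Nat.findGreatest_spec (P := P) (n := n) hn h3
  refine ⟨_, u, Nat.le_findGreatest hn h3, hu, fun u' hu' => ?_⟩
  exact Nat.findGreatest_is_greatest (P := P) (Nat.lt_succ_self _) hu'.le ⟨u', hu'⟩

section
variable (hv : ∀ i, T.IsMinusTwo i)
include hv

/-- The path exhausts all indices and there is no cycle. -/
theorem path_case (hn : 3 ≤ n) {u : ℕ → Fin n} (h : IsPath T u n)
    (hz : ∀ i j, i + 1 < j → j < n → T.a (u i) (u j) = 0) : Fam T := by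
  have hsurj : ∀ j : Fin n, ∃ i < n, u i = j := by
    intro j
    have hc : (range n).image u = univ := by
      apply eq_univ_of_card
      rw [card_image_of_injOn (fun i hi j hj e => h.inj (mem_range.1 hi) (mem_range.1 hj) e)]
      simp
    have := hc ▸ mem_univ j
    simpa using this
  have hrow : ∀ i < n, ∀ S : Finset ℕ, (∀ l ∈ S, l < n ∧ l ≠ i) →
      (∀ l < n, l ≠ i → (l + 1 = i ∨ i + 1 = l) → l ∈ S) →
      ∑ l ∈ S, T.a (u i) (u l) * T.m (u l) = 2 * T.w (u i) * T.m (u i) := by
    intro i hi S hS hS'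
    rw [← sum_image (g := u) (f := fun x => T.a (u i) x * T.m x)
      (fun a ha b hb e => h.inj (hS a ha).1 (hS b hb).1 e)]
    refine row_support (hv _) _ (fun hm => ?_) fun j hj hjS => ?_
    · obtain ⟨l, hl, e⟩ := mem_image.1 hm
      exact (hS l hl).2 (h.inj (hS l hl).1 hi e)
    · obtain ⟨l, hl, rfl⟩ := hsurj j
      have hli : l ≠ i := fun e => hj (e ▸ rfl)
      have hnl : l ∉ S := fun hm => hjS (mem_image_of_mem u hm)
      by_cases hadj : l + 1 = i ∨ i + 1 = l
      · exact absurd (hS' l hl hli hadj) hnl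
      · rcases Nat.lt_or_gt_of_ne hli with hlt | hgt
        · rw [a_symm T]; exact hz l i (by omega) hi
        · exact hz i l (by omega) hl
  have row0 : T.a (u 0) (u 1) * T.m (u 1) = 2 * T.w (u 0) * T.m (u 0) := by
    simpa using hrow 0 (by omega) {1} (by simp; omega) (by intros; simp; omega)
  have rowmid : ∀ i, i + 2 < n → T.a (u (i + 1)) (u i) * T.m (u i) +
      T.a (u (i + 1)) (u (i + 2)) * T.m (u (i + 2)) = 2 * T.w (u (i + 1)) * T.m (u (i + 1)) := by
    intro i hi
    simpa [sum_pair (show i ≠ i + 2 by omega)] using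
      hrow (i + 1) (by omega) {i, i + 2} (by simp; omega) (by intros; simp; omega)
  have rowlast : ∀ i, i + 2 = n →
      T.a (u (i + 1)) (u i) * T.m (u i) = 2 * T.w (u (i + 1)) * T.m (u (i + 1)) := by
    intro i hi
    simpa using hrow (i + 1) (by omega) {i} (by simp; omega) (by intros; simp; omega)
  -- triple edges
  by_cases h3 : ∃ i, i + 1 < n ∧ Triple T (u i) (u (i + 1))
  · obtain ⟨i, hi, ht⟩ := h3
    by_cases hn4 : 4 ≤ n
    · exfalso
      by_cases hi2 : i + 2 < n
      · exact (h.sub i 3 (by omega)).not_triple le_rfl (by omega) (i := 0) (by omega) ht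
      · obtain ⟨p, rfl⟩ : ∃ p, i = p + 1 := ⟨i - 1, by omega⟩
        exact (h.sub p 3 (by omega)).not_triple le_rfl (by omega) (i := 1) (by omega) ht
    · obtain rfl : n = 3 := by omega
      obtain ⟨u', hu', hd⟩ : ∃ u', IsPath T u' 3 ∧ Triple T (u' 1) (u' 2) := by
        have hi2 : i < 2 := by omega
        interval_cases i
        · exact ⟨_, h.rev, by simpa using ht.symm⟩
        · exact ⟨u, h, ht⟩
      refine Or.inr (Or.inr (Or.inr (Or.inr (Or.inr (Or.inr (Or.inr (Or.inl ⟨rfl, ?_⟩)))))))
      have hd' := hd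
      rcases hd with ⟨-, e⟩ | ⟨-, e⟩
      · exact Or.inr (G2b_match hv hu'.inj (fun i hi => hu'.adj i (by omega)) hd' e).2
      · exact Or.inl (G2a_match hv hu'.inj (fun i hi => hu'.adj i (by omega)) hd' e).2
  push Not at h3
  have hSD : ∀ i, i + 1 < n → Simple T (u i) (u (i + 1)) ∨ Double T (u i) (u (i + 1)) := by
    intro i hi
    rcases edge_cases T (by omega) (h.ne (by omega) hi (by omega)) (hv _) (hv _) (h.adj i hi) with
      h' | h' | h'
    · exact Or.inl h'
    · exact Or.inr h'
    · exact absurd h' (h3 i hi)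
  by_cases hdd : ∃ i j, i < j ∧ j + 1 < n ∧ Double T (u i) (u (i + 1)) ∧ Double T (u j) (u (j + 1))
  · obtain ⟨i, j, hij, hj, h1, h2⟩ := hdd
    obtain ⟨L, rfl⟩ : ∃ L, j = i + (L + 1) := ⟨j - i - 1, by omega⟩
    obtain ⟨hk, hm⟩ := double_double_match hv (L := L) (h.sub i (L + 3) (by omega)).inj
      (fun l hl => (h.sub i (L + 3) (by omega)).adj l (by omega)) h1 h2
    rcases hm with hm | hm | hm
    · exact Or.inr (Or.inl hm)
    · exact Or.inr (Or.inr (Or.inl hm))
    · exact Or.inr (Or.inr (Or.inr (Or.inl hm)))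
  push Not at hdd
  have huniq : ∀ d, d + 1 < n → Double T (u d) (u (d + 1)) →
      ∀ i, i + 1 < n → i ≠ d → Simple T (u i) (u (i + 1)) := by
    intro d hd hD i hi hne
    rcases hSD i hi with h' | h'
    · exact h'
    · rcases Nat.lt_or_gt_of_ne hne with hlt | hlt
      · exact absurd hD (hdd i d hlt hd h')
      · exact absurd h' (hdd d i hlt hi hD)
  have lin : ∀ d, (∀ i, i < d → i + 1 < n → Simple T (u i) (u (i + 1))) →
      ∀ i, i ≤ d → i < n → T.m (u i) = (i + 1 : ℕ) * T.m (u 0) := by
    intro d hs i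
    induction i using Nat.strong_induction_on with
    | _ i ih =>
      intro hid hin
      match i with
      | 0 => simp
      | 1 =>
        obtain ⟨a0, -⟩ := hs 0 (by omega) hin
        rw [a0] at row0
        exact mul_left_cancel₀ (T.w_pos (u 0)).ne' (by push_cast; linarith)
      | i + 2 =>
        obtain ⟨a1, b1⟩ := hs i (by omega) (by omega)
        obtain ⟨a2, b2⟩ := hs (i + 1) (by omega) hin
        have r := rowmid i hin
        rw [a_symm T (u (i + 1)) (u i), a1, a2, b1, ih i (by omega) (by omega) (by omega),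
          ih (i + 1) (by omega) (by omega) (by omega)] at r
        exact mul_left_cancel₀ (T.w_pos (u i)).ne' (by push_cast at r ⊢; linarith)
  have hm0 := T.m_pos (u 0)
  by_cases hd : ∃ d, d + 1 < n ∧ Double T (u d) (u (d + 1))
  swap
  · push Not at hd
    exfalso
    have hs : ∀ i, i < n → i + 1 < n → Simple T (u i) (u (i + 1)) := fun i _ hi =>
      (hSD i hi).resolve_right (hd i hi)
    obtain ⟨p, rfl⟩ : ∃ p, n = p + 2 := ⟨n - 2, by omega⟩
    obtain ⟨a1, b1⟩ := hs p (by omega) (by omega)
    have r := rowlast p rfl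
    rw [a_symm T (u (p + 1)) (u p), a1, b1, lin (p + 2) hs p (by omega) (by omega),
      lin (p + 2) hs (p + 1) (by omega) (by omega)] at r
    have := mul_left_cancel₀ (a := T.w (u p)) (T.w_pos _).ne'
      (b := ((p + 1 : ℕ) : ℤ) * T.m (u 0)) (c := 2 * (((p + 1 + 1 : ℕ) : ℤ) * T.m (u 0)))
      (by linarith)
    push_cast at this
    nlinarith
  obtain ⟨d, hd, hD⟩ := hd
  have hS := huniq d hd hD
  by_cases hint : d = 0 ∨ d + 2 = n
  · exfalso
    obtain ⟨p, rfl⟩ : ∃ p, n = p + 3 := ⟨n - 3, by omega⟩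
    rcases hint with rfl | hint
    · -- read the equations backwards
      have lin' : ∀ i, i ≤ p + 1 → T.m (u (p + 2 - i)) = (i + 1 : ℕ) * T.m (u (p + 2)) := by
        intro i
        induction i using Nat.strong_induction_on with
        | _ i ih =>
          intro hi
          match i with
          | 0 => simp
          | 1 =>
            obtain ⟨a1, b1⟩ := hS (p + 1) (by omega) (by omega)
            have r := rowlast (p + 1) rfl
            rw [show p + 1 + 1 = p + 2 by omega] at r a1 b1
            rw [show p + 2 - 1 = p + 1 by omega]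
            rw [a_symm T (u (p + 2)) (u (p + 1)), a1, b1] at r
            exact mul_left_cancel₀ (T.w_pos (u (p + 1))).ne' (by push_cast; linarith)
          | i + 2 =>
            obtain ⟨j, rfl⟩ : ∃ j, p = i + j := ⟨p - i, by omega⟩
            obtain ⟨a1, b1⟩ := hS j (by omega) (by omega)
            obtain ⟨a2, b2⟩ := hS (j + 1) (by omega) (by omega)
            have r := rowmid j (by omega)
            have e1 := ih i (by omega) (by omega)
            have e2 := ih (i + 1) (by omega) (by omega)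
            rw [show i + j + 2 - i = j + 2 by omega] at e1
            rw [show i + j + 2 - (i + 1) = j + 1 by omega] at e2
            rw [show i + j + 2 - (i + 2) = j by omega]
            rw [show j + 1 + 1 = j + 2 by omega] at a2 b2
            rw [a_symm T (u (j + 1)) (u j), a1, a2, b1, e1, e2] at r
            exact mul_left_cancel₀ (T.w_pos (u j)).ne' (by push_cast at r ⊢; linarith)
      have e1 := lin' p (by omega)
      have e2 := lin' (p + 1) le_rfl
      rw [show p + 2 - p = 2 by omega] at e1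
      rw [show p + 2 - (p + 1) = 1 by omega] at e2
      obtain ⟨a2, b2⟩ := hS 1 (by omega) (by omega)
      have r := rowmid 0 (by omega)
      rw [show (0:ℕ) + 1 = 1 from rfl, show (1:ℕ) + 1 = 2 from rfl] at *
      rw [a_symm T (u 1) (u 0), a2] at r
      push_cast at e1 e2
      rcases hD with ⟨a0, b0⟩ | ⟨a0, b0⟩ <;> rw [a0] at r row0
      · have k0 : T.m (u 1) = 2 * T.m (u 0) :=
          mul_left_cancel₀ (T.w_pos (u 0)).ne' (by linarith)
        have k1 : 2 * T.m (u 0) + T.m (u 2) = 2 * T.m (u 1) :=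
          mul_left_cancel₀ (T.w_pos (u 1)).ne' (by rw [b0] at r; linarith)
        nlinarith [T.m_pos (u (p + 2))]
      · have k0 : T.m (u 1) = T.m (u 0) :=
          mul_left_cancel₀ (T.w_pos (u 0)).ne' (by rw [b0] at row0; linarith)
        have k1 : T.m (u 0) + T.m (u 2) = 2 * T.m (u 1) :=
          mul_left_cancel₀ (T.w_pos (u 1)).ne' (by linarith)
        nlinarith [T.m_pos (u (p + 2))]
    · obtain rfl : d = p + 1 := by omega
      obtain ⟨a1, b1⟩ := hS p (by omega) (by omega)
      have r := rowmid p (by omega)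
      have r' := rowlast (p + 1) rfl
      rw [show p + 1 + 1 = p + 2 by omega] at hD r'
      rw [a_symm T (u (p + 1)) (u p), a1] at r
      rw [a_symm T (u (p + 2)) (u (p + 1))] at r'
      have hs : ∀ i, i < p + 1 → i + 1 < p + 3 → Simple T (u i) (u (i + 1)) :=
        fun i h1 h2 => hS i h2 (by omega)
      have e1 := lin (p + 1) hs p (by omega) (by omega)
      have e2 := lin (p + 1) hs (p + 1) le_rfl (by omega)
      push_cast at e1 e2
      rcases hD with ⟨a0, b0⟩ | ⟨a0, b0⟩ <;> rw [a0] at r r'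
      · have k0 : T.m (u (p + 2)) = T.m (u (p + 1)) :=
          mul_left_cancel₀ (T.w_pos (u (p + 2))).ne' (by rw [b0] at r'; linarith)
        have k1 : T.m (u p) + T.m (u (p + 2)) = 2 * T.m (u (p + 1)) :=
          mul_left_cancel₀ (T.w_pos (u p)).ne' (by rw [b1] at r; linarith)
        nlinarith
      · have k0 : T.m (u (p + 1)) = 2 * T.m (u (p + 2)) :=
          mul_left_cancel₀ (T.w_pos (u (p + 2))).ne' (by linarith)
        have k1 : T.m (u p) + 2 * T.m (u (p + 2)) = 2 * T.m (u (p + 1)) :=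
          mul_left_cancel₀ (T.w_pos (u p)).ne' (by rw [b0, b1] at r; linarith)
        nlinarith
  push Not at hint
  have hn4 : 4 ≤ n := by omega
  have hn5 : n ≤ 5 := by
    by_contra hc
    by_cases hd1 : d = 1
    · subst hd1
      have := (h.sub 0 5 (by omega)).double_end le_rfl (by omega) (i := 1) (by omega)
        (by simpa using hD)
      omega
    · obtain ⟨p, rfl⟩ : ∃ p, d = p + 2 := ⟨d - 2, by omega⟩
      have := (h.sub p 5 (by omega)).double_end le_rfl (by omega) (i := 2) (by omega) hD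
      omega
  interval_cases n
  · exfalso
    obtain rfl : d = 1 := by omega
    obtain ⟨a0, b0⟩ := hS 0 (by omega) (by omega)
    obtain ⟨a2, b2⟩ := hS 2 (by omega) (by omega)
    have r1 := rowmid 0 (by omega)
    have r2 := rowmid 1 (by omega)
    have r3 := rowlast 2 rfl
    simp only [Nat.reduceAdd] at *
    rw [a0] at row0
    rw [a_symm T (u 1) (u 0), a0] at r1
    rw [a_symm T (u 2) (u 1), a2] at r2
    rw [a_symm T (u 3) (u 2), a2, b2] at r3
    have k0 : T.m (u 1) = 2 * T.m (u 0) := mul_left_cancel₀ (T.w_pos (u 0)).ne' (by linarith)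
    have k3 : T.m (u 2) = 2 * T.m (u 3) := mul_left_cancel₀ (T.w_pos (u 2)).ne' (by linarith)
    rcases hD with ⟨a1, b1⟩ | ⟨a1, b1⟩ <;> rw [a1] at r1 r2
    · have k1 : T.m (u 0) + T.m (u 2) = 2 * T.m (u 1) :=
        mul_left_cancel₀ (T.w_pos (u 0)).ne' (by rw [b0] at r1; linarith)
      have k2 : 2 * T.m (u 1) + T.m (u 3) = 2 * T.m (u 2) :=
        mul_left_cancel₀ (T.w_pos (u 2)).ne' (by rw [b1] at r2; linarith)
      linarith
    · have k1 : T.m (u 0) + 2 * T.m (u 2) = 2 * T.m (u 1) :=
        mul_left_cancel₀ (T.w_pos (u 0)).ne' (by rw [b1, b0] at r1; linarith)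
      have k2 : T.m (u 1) + T.m (u 3) = 2 * T.m (u 2) :=
        mul_left_cancel₀ (T.w_pos (u 2)).ne' (by linarith)
      linarith
  · obtain ⟨u', hu', hd'⟩ : ∃ u', IsPath T u' 5 ∧ Double T (u' 2) (u' 3) := by
      obtain rfl | rfl : d = 1 ∨ d = 2 := by omega
      · exact ⟨_, h.rev, by simpa using hD.symm⟩
      · exact ⟨u, h, hD⟩
    refine Or.inr (Or.inr (Or.inr (Or.inr (Or.inr (Or.inr (Or.inr (Or.inr (Or.inl ⟨rfl, ?_⟩))))))))
    have hd2 := hd'
    rcases hd' with ⟨-, e⟩ | ⟨-, e⟩
    · exact Or.inr (F4b_match hv hu'.inj (fun i hi => hu'.adj i (by omega)) hd2 e).2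
    · exact Or.inl (F4a_match hv hu'.inj (fun i hi => hu'.adj i (by omega)) hd2 e).2

end

end Groth.L26.NumType
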