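import Groth.Agent.L26.NumType.GenusOne

/-! Classification of the minimal numerical types of genus one: trees with a branch point. -/

namespace Groth.L26.NumType

open Finset Models Models.NumericalType

variable {n : ℕ} {T : NumericalType n}

section
variable (hv : ∀ i, T.IsMinusTwo i)
include hv

/-- Two branch edges at `k` and `k'`. -/
theorem two_branches {u : ℕ → Fin n} {t : ℕ} (h : IsPath T u t) {k k' : ℕ} {x y : Fin n}
    (hk : 1 ≤ k) (hkk : k ≤ k') (hk' : k' + 2 ≤ t) (hx : ∀ i < t, u i ≠ x) (hy : ∀ i < t, u i ≠ y)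
    (hxy : x ≠ y) (hkx : T.a (u k) x ≠ 0) (hky : T.a (u k') y ≠ 0) : Fam T := by
  obtain ⟨L, rfl⟩ : ∃ L, k' = k + L := ⟨k' - k, by omega⟩
  let f : ℕ → Fin n := fun l =>
    if l = 0 then u (k - 1) else if l = 1 then x else if l ≤ L + 3 then u (k + (l - 2)) else y
  have hinj : Set.InjOn f (Set.Iio (L + 5)) := by
    intro a ha b hb e
    simp only [Set.mem_Iio] at ha hb
    simp only [f] at e
    split_ifs at e <;> first
      | omega
      | exact absurd e (hx _ (by omega))
      | exact absurd e.symm (hx _ (by omega))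
      | exact absurd e (hy _ (by omega))
      | exact absurd e.symm (hy _ (by omega))
      | exact absurd e hxy
      | exact absurd e.symm hxy
      | (have := h.inj (Set.mem_Iio.2 (by omega)) (Set.mem_Iio.2 (by omega)) e; omega)
  refine And.elim (fun hk5 hm => ?_) (fork_fork_match hv (L := L) (u := f) hinj ?_ ?_ ?_)
  · exact Or.inr (Or.inr (Or.inr (Or.inr (Or.inr (Or.inr (Or.inl ⟨by omega, hm⟩))))))
  · intro i h1 h2
    simp only [f]
    rw [if_neg (by omega : ¬ i = 0), if_neg (by omega : ¬ i + 1 = 0), if_neg (by omega : ¬ i + 1 = 1),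
      if_pos (by omega : i + 1 ≤ L + 3)]
    split_ifs with h3 h4
    · rw [show i + 1 - 2 = 0 by omega, a_symm T]; exact hkx
    · rw [show k + (i + 1 - 2) = k + (i - 2) + 1 by omega]
      exact h.adj _ (by omega)
    · omega
  · show T.a (u (k - 1)) (f 2) ≠ 0
    simp only [f, if_neg (show ¬ (2:ℕ) = 0 by omega), if_neg (show ¬ (2:ℕ) = 1 by omega),
      if_pos (show 2 ≤ L + 3 by omega)]
    have := h.adj (k - 1) (by omega)
    rwa [show k - 1 + 1 = k + (2 - 2) by omega] at this
  · simp only [f]
    rw [if_neg (by omega : ¬ L + 2 = 0), if_neg (by omega : ¬ L + 2 = 1),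
      if_pos (by omega : L + 2 ≤ L + 3), if_neg (by omega : ¬ L + 4 = 0),
      if_neg (by omega : ¬ L + 4 = 1), if_neg (by omega : ¬ L + 4 ≤ L + 3),
      show k + (L + 2 - 2) = k + L by omega]
    exact hky

/-- An arm of length two at an inner vertex at distance at least two from both ends. -/
theorem long_arm {u : ℕ → Fin n} {t : ℕ} (h : IsPath T u t) {k : ℕ} {x y : Fin n} (hk : 2 ≤ k)
    (hk' : k + 3 ≤ t) (hx : ∀ i < t, u i ≠ x) (hy : ∀ i < t, u i ≠ y) (hxy : x ≠ y)
    (hkx : T.a (u k) x ≠ 0) (hxy' : T.a x y ≠ 0) : Fam T := by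
  obtain ⟨p, rfl⟩ : ∃ p, k = p + 2 := ⟨k - 2, by omega⟩
  let f : ℕ → Fin n := fun l =>
    if l = 5 then y else if l = 6 then x else
      u (p + if l = 3 then 4 else if l = 4 then 3 else l)
  have hinj : Set.InjOn f (Set.Iio 7) := by
    intro a ha b hb e
    simp only [Set.mem_Iio] at ha hb
    by_contra hab
    interval_cases a <;> interval_cases b <;> simp [f] at e hab <;> first
      | exact hx _ (by omega) e
      | exact hx _ (by omega) e.symm
      | exact hy _ (by omega) e
      | exact hy _ (by omega) e.symm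
      | exact hxy e
      | exact hxy e.symm
      | (have := h.inj (Set.mem_Iio.2 (by omega)) (Set.mem_Iio.2 (by omega)) e; omega)
  refine And.elim (fun hk7 hm => ?_) (E6_match hv (u := f) hinj ?_ ?_ ?_ ?_ ?_ ?_)
  · exact Or.inr (Or.inr (Or.inr (Or.inr (Or.inr (Or.inr (Or.inr (Or.inr (Or.inr (Or.inl ⟨hk7.symm, hm⟩)))))))))
  · exact h.adj p (by omega)
  · exact h.adj (p + 1) (by omega)
  · show T.a (u (p + 4)) (u (p + 3)) ≠ 0
    rw [a_symm T]; exact h.adj (p + 3) (by omega)
  · exact h.adj (p + 2) (by omega)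
  · show T.a y x ≠ 0
    rw [a_symm T]; exact hxy'
  · exact hkx

/-- A tree with a single short branch and a double edge on the path to the left of it. -/
theorem double_left {u : ℕ → Fin n} {t : ℕ} (h : IsPath T u t) {k : ℕ} {x : Fin n}
    (hk' : k + 2 ≤ t) (hx : ∀ i < t, u i ≠ x) (hkx : T.a (u k) x ≠ 0) {i : ℕ} (hi : i < k)
    (hd : Double T (u i) (u (i + 1))) : Fam T := by
  obtain ⟨L, rfl⟩ : ∃ L, k = i + (L + 1) := ⟨k - i - 1, by omega⟩
  let f : ℕ → Fin n := fun l => if l ≤ L + 2 then u (i + l) else x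
  have hinj : Set.InjOn f (Set.Iio (L + 4)) := by
    intro a ha b hb e
    simp only [Set.mem_Iio] at ha hb
    simp only [f] at e
    split_ifs at e <;> first
      | omega
      | exact absurd e (hx _ (by omega))
      | exact absurd e.symm (hx _ (by omega))
      | (have := h.inj (Set.mem_Iio.2 (by omega)) (Set.mem_Iio.2 (by omega)) e; omega)
  refine And.elim (fun hk4 hm => ?_) (double_fork_match hv (L := L) (u := f) hinj ?_ ?_ ?_)
  · rcases hm with hm | hm
    · exact Or.inr (Or.inr (Or.inr (Or.inr (Or.inl ⟨by omega, hm⟩))))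
    · exact Or.inr (Or.inr (Or.inr (Or.inr (Or.inr (Or.inl ⟨by omega, hm⟩)))))
  · intro l hl
    simp only [f]; rw [if_pos (by omega : l ≤ L + 2), if_pos (by omega : l + 1 ≤ L + 2)]
    exact h.adj (i + l) (by omega)
  · simp only [f]; rw [if_pos (by omega : L + 1 ≤ L + 2), if_neg (by omega : ¬ L + 3 ≤ L + 2)]
    exact hkx
  · simp only [f]; rw [if_pos (by omega : 0 ≤ L + 2), if_pos (by omega : 1 ≤ L + 2)]
    exact hd

/-- A tree with a single short branch all of whose edges are simple. -/
theorem simple_star {u : ℕ → Fin n} {t : ℕ} (h : IsPath T u t) {k : ℕ} {x : Fin n} (hk : 1 ≤ k)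
    (hk' : k + 2 ≤ t) (hx : ∀ i < t, u i ≠ x) (hkx : T.a (u k) x ≠ 0)
    (hall : ∀ j, j = x ∨ ∃ i < t, u i = j) (hz : ∀ i j, i + 1 < j → j < t → T.a (u i) (u j) = 0)
    (honly : ∀ i < t, i ≠ k → T.a (u i) x = 0)
    (hs : ∀ i, i + 1 < t → Simple T (u i) (u (i + 1))) (hsx : Simple T (u k) x) : Fam T := by
  have hw : ∀ i < t, T.w (u i) = T.w (u 0) := fun i hi =>
    weight_const (u := u) (d := t - 1) (fun i hi => hs i (by omega)) i (by omega)
  have ha : ∀ i, i + 1 < t → T.a (u i) (u (i + 1)) = T.w (u 0) := fun i hi => by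
    rw [(hs i hi).1, hw i (by omega)]
  have hax : T.a (u k) x = T.w (u 0) := by rw [hsx.1, hw k (by omega)]
  have hwx : T.w x = T.w (u 0) := by rw [hsx.2, hw k (by omega)]
  have w0 := (T.w_pos (u 0)).ne'
  have hrowx : T.m (u k) = 2 * T.m x := by
    have r := row_support (hv x) {u k} (by simp; exact fun e => hx k (by omega) e.symm)
      (fun j hj hjS => by
        rcases hall j with rfl | ⟨i, hi, rfl⟩
        · exact absurd rfl hj
        · simp only [mem_singleton] at hjS
          rw [a_symm T]; exact honly i hi fun e => hjS (e ▸ rfl))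
    rw [sum_singleton, a_symm T, hax, hwx] at r
    exact mul_left_cancel₀ w0 (by linarith)
  have hrow : ∀ i < t, ∀ S : Finset ℕ, (∀ l ∈ S, l < t ∧ (l + 1 = i ∨ i + 1 = l)) →
      (∀ l < t, (l + 1 = i ∨ i + 1 = l) → l ∈ S) →
      (if i = k then T.m x else 0) + ∑ l ∈ S, T.m (u l) = 2 * T.m (u i) := by
    intro i hi S hS hS'
    have hxS : x ∉ S.image u := by
      intro hm; obtain ⟨l, hl, e⟩ := mem_image.1 hm; exact hx l (hS l hl).1 e
    have r := row_support (hv (u i)) (insert x (S.image u)) (by
      simp only [mem_insert, mem_image, not_or, not_exists, not_and]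
      exact ⟨hx i hi, fun l hl e => by
        have := h.inj (Set.mem_Iio.2 (hS l hl).1) (Set.mem_Iio.2 hi) e
        rcases (hS l hl).2 with h1 | h1 <;> omega⟩) (fun j hj hjS => by
        rcases hall j with rfl | ⟨l, hl, rfl⟩
        · exact absurd (mem_insert_self _ _) hjS
        · have hli : l ≠ i := fun e => hj (e ▸ rfl)
          by_cases hadj : l + 1 = i ∨ i + 1 = l
          · exact absurd (mem_insert_of_mem (mem_image_of_mem u (hS' l hl hadj))) hjS
          · rcases Nat.lt_or_gt_of_ne hli with h1 | h1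
            · rw [a_symm T]; exact hz l i (by omega) hi
            · exact hz i l (by omega) hl)
    rw [sum_insert hxS, sum_image (fun a ha b hb e => h.inj (hS a ha).1 (hS b hb).1 e), hw i hi] at r
    have e1 : T.a (u i) x * T.m x = T.w (u 0) * (if i = k then T.m x else 0) := by
      split_ifs with e
      · rw [e, hax]
      · rw [honly i hi e, zero_mul, mul_zero]
    have e2 : ∀ l ∈ S, T.a (u i) (u l) * T.m (u l) = T.w (u 0) * T.m (u l) := by
      intro l hl
      obtain ⟨hlt, hadj | hadj⟩ := hS l hl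
      · rw [← hadj, a_symm T, ha l (by omega)]
      · rw [← hadj, ha i (by omega)]
    rw [e1, sum_congr rfl e2, ← mul_sum] at r
    exact mul_left_cancel₀ w0 (by linarith)
  have row0 : T.m (u 1) = 2 * T.m (u 0) := by
    have := hrow 0 (by omega) {1} (by simp; omega) (by intros; simp; omega)
    simpa [if_neg (show ¬ 0 = k by omega)] using this
  have rowl : T.m (u (t - 2)) = 2 * T.m (u (t - 1)) := by
    have := hrow (t - 1) (by omega) {t - 2} (by simp; omega) (by intros; simp; omega)
    simpa [if_neg (show ¬ t - 1 = k by omega)] using this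
  have rowi : ∀ i, i + 2 < t →
      (if i + 1 = k then T.m x else 0) + (T.m (u i) + T.m (u (i + 2))) = 2 * T.m (u (i + 1)) := by
    intro i hi
    have := hrow (i + 1) (by omega) {i, i + 2} (by simp; omega) (by intros; simp; omega)
    rwa [sum_pair (show i ≠ i + 2 by omega)] at this
  have left' : ∀ i, i ≤ k → T.m (u i) = (i + 1 : ℕ) * T.m (u 0) := by
    intro i
    induction i using Nat.strong_induction_on with
    | _ i ih =>
      intro hik
      match i with
      | 0 => simp
      | 1 => push_cast; linarith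
      | i + 2 =>
        have r := rowi i (by omega)
        rw [if_neg (by omega), ih i (by omega) (by omega), ih (i + 1) (by omega) (by omega)] at r
        push_cast at r ⊢; linarith
  have right' : ∀ i, i + k + 1 ≤ t → T.m (u (t - 1 - i)) = (i + 1 : ℕ) * T.m (u (t - 1)) := by
    intro i
    induction i using Nat.strong_induction_on with
    | _ i ih =>
      intro hik
      match i with
      | 0 => simp
      | 1 => push_cast; rw [show t - 1 - 1 = t - 2 by omega]; linarith
      | i + 2 =>
        have r := rowi (t - 1 - (i + 2)) (by omega)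
        have e1 := ih (i + 1) (by omega) (by omega)
        have e0 := ih i (by omega) (by omega)
        rw [show t - 1 - (i + 2) + 1 = t - 1 - (i + 1) by omega,
          show t - 1 - (i + 2) + 2 = t - 1 - i by omega, if_neg (by omega), e0, e1] at r
        push_cast at r ⊢; linarith
  obtain ⟨k1, rfl⟩ : ∃ k1, k = k1 + 1 := ⟨k - 1, by omega⟩
  obtain ⟨b, rfl⟩ : ∃ b, t = k1 + b + 3 := ⟨t - k1 - 3, by omega⟩
  have r := rowi k1 (by omega)
  rw [if_pos rfl] at r
  have l1 := left' k1 (by omega)
  have l2 := left' (k1 + 1) le_rfl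
  have r1 := right' b (by omega)
  have r2 := right' (b + 1) (by omega)
  rw [show k1 + b + 3 - 1 - b = k1 + 2 by omega] at r1
  rw [show k1 + b + 3 - 1 - (b + 1) = k1 + 1 by omega] at r2
  push_cast at l1 l2 r1 r2
  have hc : 0 < T.m (u 0) := T.m_pos _
  -- `1/2 + 1/(k+1) + 1/(b+2) = 1`
  have hkey : ((k1 : ℤ) * b - 4) * T.m (u 0) = 0 := by
    have e : (k1 + 2 : ℤ) * T.m (u 0) = (b + 2) * T.m (u (k1 + b + 2)) := by linarith
    have e' : 3 * ((k1 + 2 : ℤ) * T.m (u 0))
        = 2 * ((k1 + 1) * T.m (u 0)) + 2 * ((b + 1) * T.m (u (k1 + b + 2))) := by linarith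
    linear_combination (-((b : ℤ) + 2)) * e' + 2 * ((b : ℤ) + 1) * e
  have hkb : k1 * b = 4 := by
    have := (mul_eq_zero.1 hkey).resolve_right hc.ne'
    have h4 : (k1 : ℤ) * b = 4 := by linarith
    exact_mod_cast h4
  have hn : k1 + b + 3 + 1 = n := by
    have hc : insert x ((range (k1 + b + 3)).image u) = univ := by
      refine eq_univ_of_forall fun j => ?_
      rcases hall j with rfl | ⟨i, hi, rfl⟩
      · exact mem_insert_self _ _
      · exact mem_insert_of_mem (mem_image_of_mem u (mem_range.2 hi))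
    have hnot : x ∉ (range (k1 + b + 3)).image u := by
      intro hm; obtain ⟨l, hl, e⟩ := mem_image.1 hm; exact hx l (mem_range.1 hl) e
    have := congrArg Finset.card hc
    rw [card_insert_of_notMem hnot,
      card_image_of_injOn (fun i hi j hj e => h.inj (mem_range.1 hi) (mem_range.1 hj) e)] at this
    simpa using this
  have hk14 : k1 ≤ 4 := Nat.le_of_dvd (by omega) ⟨b, hkb.symm⟩
  have hb4 : b ≤ 4 := Nat.le_of_dvd (by omega) ⟨k1, by rw [mul_comm]; exact hkb.symm⟩
  have hext : ∀ (σ : ℕ → ℕ) (s : ℕ), (∀ l < s, σ l < k1 + b + 3) → Set.InjOn σ (Set.Iio s) →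
      Set.InjOn (fun l => if l < s then u (σ l) else x) (Set.Iio (s + 1)) := by
    intro σ s hlt hσ a ha b' hb e
    simp only [Set.mem_Iio] at ha hb
    simp only at e
    split_ifs at e with h1 h2 h2
    · exact hσ h1 h2 (h.inj (hlt a h1) (hlt b' h2) e)
    · exact absurd e (hx _ (hlt a h1))
    · exact absurd e.symm (hx _ (hlt b' h2))
    · omega
  interval_cases k1 <;> interval_cases b <;> simp at hkb
  · -- `E8`, short arm on the left
    obtain ⟨hk9, hm⟩ := E8_match hv (u := fun l => if l < 8 then u (7 - l) else x)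
      (hext (fun l => 7 - l) 8 (fun l hl => by omega) (fun a ha b hb e => by
        simp only [Set.mem_Iio] at ha hb e; omega))
      (by rw [a_symm T]; exact h.adj 6 (by omega)) (by rw [a_symm T]; exact h.adj 5 (by omega))
      (by rw [a_symm T]; exact h.adj 4 (by omega)) (by rw [a_symm T]; exact h.adj 3 (by omega))
      (by rw [a_symm T]; exact h.adj 2 (by omega)) (by rw [a_symm T]; exact h.adj 1 (by omega))
      (by rw [a_symm T]; exact h.adj 0 (by omega)) hkx
    exact Or.inr (Or.inr (Or.inr (Or.inr (Or.inr (Or.inr (Or.inr (Or.inr (Or.inr (Or.inr (Or.inr ⟨hk9.symm, hm⟩))))))))))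
  · -- `E7`
    obtain ⟨hk8, hm⟩ := E7_match hv (u := fun l => if l < 7 then u l else x)
      (hext (fun l => l) 7 (fun l hl => by omega) (fun a _ b _ e => e))
      (h.adj 0 (by omega)) (h.adj 1 (by omega)) (h.adj 2 (by omega)) (h.adj 3 (by omega))
      (h.adj 4 (by omega)) (h.adj 5 (by omega)) hkx
    exact Or.inr (Or.inr (Or.inr (Or.inr (Or.inr (Or.inr (Or.inr (Or.inr (Or.inr (Or.inr (Or.inl ⟨hk8.symm, hm⟩))))))))))
  · -- `E8`, short arm on the right
    obtain ⟨hk9, hm⟩ := E8_match hv (u := fun l => if l < 8 then u l else x)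
      (hext (fun l => l) 8 (fun l hl => by omega) (fun a _ b _ e => e))
      (h.adj 0 (by omega)) (h.adj 1 (by omega)) (h.adj 2 (by omega)) (h.adj 3 (by omega))
      (h.adj 4 (by omega)) (h.adj 5 (by omega)) (h.adj 6 (by omega)) hkx
    exact Or.inr (Or.inr (Or.inr (Or.inr (Or.inr (Or.inr (Or.inr (Or.inr (Or.inr (Or.inr (Or.inr ⟨hk9.symm, hm⟩))))))))))

end

/-- A minimal type of genus one on at least three indices is one of the affine shapes. -/
theorem genus_one_classification (T : NumericalType n) (hn : 3 ≤ n) (hv : ∀ i, T.IsMinusTwo i) :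
    Fam T := by
  classical
  by_cases hcyc : ∃ u, IsPath T u n ∧ T.a (u 0) (u (n - 1)) ≠ 0
  · obtain ⟨u, hu, hc⟩ := hcyc
    obtain ⟨p, rfl⟩ : ∃ p, n = p + 1 := ⟨n - 1, by omega⟩
    exact Or.inl (cycle_match hv (K := p) (by omega) hu.inj (fun i hi => hu.adj i (by omega))
      (by simpa using hc)).2
  push Not at hcyc
  obtain ⟨t, u, ht, h, hmax⟩ := exists_longest hv hn
  have hz : ∀ i j, i + 1 < j → j < t → T.a (u i) (u j) = 0 := by
    intro i j hij hj
    rcases Nat.lt_or_ge (j - i + 1) n with hlt | hge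
    · have := (h.sub i (j - i + 1) (by omega)).zero_of_lt hlt (i := 0) (j := j - i) (by omega) (by omega)
      simpa [show i + (j - i) = j by omega] using this
    · have := h.le
      obtain rfl : i = 0 := by omega
      obtain rfl : t = n := by omega
      obtain rfl : j = t - 1 := by omega
      exact hcyc u h
  rcases Nat.lt_or_ge t n with htn | htn
  swap
  · obtain rfl : t = n := le_antisymm h.le htn
    exact path_case hv hn h hz
  have hI : (range t).image u ≠ univ := fun e => by
    have := congrArg Finset.card e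
    rw [card_image_of_injOn (fun i hi j hj e => h.inj (mem_range.1 hi) (mem_range.1 hj) e)] at this
    simp at this; omega
  obtain ⟨a, ha, x, hxI, hkx⟩ := T.connected _ ⟨u 0, mem_image_of_mem u (mem_range.2 (by omega))⟩ hI
  obtain ⟨k, hk, rfl⟩ := mem_image.1 ha
  rw [mem_range] at hk
  have hx : ∀ i < t, u i ≠ x := fun i hi e => hxI (e ▸ mem_image_of_mem u (mem_range.2 hi))
  have hend : ∀ (y : Fin n) (i : ℕ), i < t → (∀ l < t, u l ≠ y) → T.a (u i) y ≠ 0 →
      1 ≤ i ∧ i + 2 ≤ t := by
    intro y i hi hy hiy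
    constructor
    · by_contra hc
      obtain rfl : i = 0 := by omega
      exact hmax _ (h.cons (by omega) (hv y) hy (by rw [a_symm T]; exact hiy))
    · by_contra hc
      exact hmax _ (h.rev.cons (by omega) (hv y) (fun l _ => hy _ (by omega))
        (by rw [a_symm T, show t - 1 - 0 = i by omega]; exact hiy))
  obtain ⟨hk1, hk2⟩ := hend x k hk hx hkx
  -- a second branch
  by_cases hbr : ∃ y i, i < t ∧ y ≠ x ∧ (∀ l < t, u l ≠ y) ∧ T.a (u i) y ≠ 0
  · obtain ⟨y, i, hi, hyx, hy, hiy⟩ := hbr
    obtain ⟨hi1, hi2⟩ := hend y i hi hy hiy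
    rcases le_total k i with hle | hle
    · exact two_branches hv h hk1 hle hi2 hx hy hyx.symm hkx hiy
    · exact two_branches hv h hi1 hle hk2 hy hx hyx hiy hkx
  push Not at hbr
  -- a long arm
  by_cases harm : ∃ y, y ≠ x ∧ (∀ l < t, u l ≠ y) ∧ T.a x y ≠ 0
  · obtain ⟨y, hyx, hy, hxy⟩ := harm
    have hshift : ∀ {v : ℕ → Fin n}, IsPath T v t → (∀ l < t, v l ≠ x) → (∀ l < t, v l ≠ y) →
        T.a (v 1) x ≠ 0 → False := by
      intro v hvp hvx hvy h1
      have hp := hvp.sub 1 (t - 1) (by omega)
      have hp1 := hp.cons (by omega) (hv x) (fun l hl => hvx _ (by omega)) (by rw [a_symm T]; exact h1)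
      have hp2 := hp1.cons (by omega) (hv y) (fun l hl => by
        split_ifs with h0
        · exact Ne.symm hyx
        · exact hvy _ (by omega)) (by rw [if_pos rfl, a_symm T]; exact hxy)
      rw [show t - 1 + 1 + 1 = t + 1 by omega] at hp2
      exact hmax _ hp2
    by_cases hk3 : 2 ≤ k ∧ k + 3 ≤ t
    · exact long_arm hv h hk3.1 hk3.2 hx hy hyx.symm hkx hxy
    · exfalso
      rcases not_and_or.1 hk3 with h' | h'
      · obtain rfl : k = 1 := by omega
        exact hshift h hx hy hkx
      · refine hshift h.rev (fun l _ => hx _ (by omega)) (fun l _ => hy _ (by omega)) ?_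
        rw [show t - 1 - 1 = k by omega]; exact hkx
  push Not at harm
  have hall : ∀ j, j = x ∨ ∃ i < t, u i = j := by
    by_contra hc
    push Not at hc
    obtain ⟨j, hjx, hj⟩ := hc
    obtain ⟨a, ha, b, hb, hab⟩ := T.connected (insert x ((range t).image u))
      ⟨x, mem_insert_self _ _⟩ (fun e => by
        have hm := e ▸ mem_univ j
        rcases mem_insert.1 hm with h' | h'
        · exact hjx h'
        · obtain ⟨i, hi, e'⟩ := mem_image.1 h'; exact hj i (mem_range.1 hi) e')
    simp only [mem_insert, mem_image, mem_range, not_or, not_exists, not_and] at ha hb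
    rcases ha with rfl | ⟨i, hi, rfl⟩
    · exact hab (harm b hb.1 hb.2)
    · exact hab (hbr b i hi hb.1 hb.2)
  have hn4 : 4 ≤ n := by omega
  have honly : ∀ i < t, i ≠ k → T.a (u i) x = 0 := by
    intro i hi hne
    by_contra hix
    obtain ⟨hi1, hi2⟩ := hend x i hi hx hix
    have key : ∀ p q, 1 ≤ p → p < q → q + 2 ≤ t → T.a (u p) x ≠ 0 → T.a (u q) x ≠ 0 → False := by
      intro p q hp hpq hq hpx hqx
      obtain ⟨d, rfl⟩ : ∃ d, q = p + d := ⟨q - p, by omega⟩
      have hp1 := (h.sub p (d + 1) (by omega)).cons (by omega) (hv x) (fun l hl => hx _ (by omega))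
        (by rw [a_symm T]; exact hpx)
      have := hp1.zero_of_lt (by omega) (i := 0) (j := d + 1) (by omega) (by omega)
      simp at this
      exact hqx (by rw [a_symm T]; exact this)
    rcases Nat.lt_or_gt_of_ne hne with hlt | hlt
    · exact key i k hi1 hlt hk2 hix hkx
    · exact key k i hk1 hlt hi2 hkx hix
  have hcase : ∀ p q, T.a p q ≠ 0 → p ≠ q → ¬ Triple T p q → Simple T p q ∨ Double T p q := by
    intro p q hpq hne hnt
    rcases edge_cases T (by omega) hne (hv _) (hv _) hpq with h' | h' | h'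
    · exact Or.inl h'
    · exact Or.inr h'
    · exact absurd h' hnt
  have hxne : u k ≠ x := hx k hk
  -- double branch edge
  by_cases hdx : Double T (u k) x
  · obtain ⟨p, rfl⟩ : ∃ p, k = p + 1 := ⟨k - 1, by omega⟩
    let f : ℕ → Fin n := fun l =>
      if l = 0 then x else u (if l = 1 then p + 1 else if l = 2 then p else p + 2)
    have hinj : Set.InjOn f (Set.Iio 4) := by
      intro a ha b hb e
      simp only [Set.mem_Iio] at ha hb
      by_contra hab
      interval_cases a <;> interval_cases b <;> simp [f] at e hab <;> first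
        | exact hx _ (by omega) e
        | exact hx _ (by omega) e.symm
        | (have := h.inj (Set.mem_Iio.2 (by omega)) (Set.mem_Iio.2 (by omega)) e; omega)
    refine And.elim (fun hk4 hm => ?_) (double_fork_match hv (L := 0) (u := f) hinj ?_ ?_ hdx.symm)
    · rcases hm with hm | hm
      · exact Or.inr (Or.inr (Or.inr (Or.inr (Or.inl ⟨by omega, hm⟩))))
      · exact Or.inr (Or.inr (Or.inr (Or.inr (Or.inr (Or.inl ⟨by omega, hm⟩)))))
    · intro l hl
      interval_cases l
      · show T.a x (u (p + 1)) ≠ 0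
        rw [a_symm T]; exact hkx
      · show T.a (u (p + 1)) (u p) ≠ 0
        rw [a_symm T]; exact h.adj p (by omega)
    · exact h.adj (p + 1) (by omega)
  by_cases hd : ∃ i, i + 1 < t ∧ Double T (u i) (u (i + 1))
  · obtain ⟨i, hi, hd⟩ := hd
    rcases Nat.lt_or_ge i k with hlt | hge
    · exact double_left hv h hk2 hx hkx hlt hd
    · refine double_left hv h.rev (k := t - 1 - k) (i := t - 2 - i) (by omega)
        (fun l _ => hx _ (by omega)) ?_ (by omega) (rev_double (u := u) hi hd)
      rw [show t - 1 - (t - 1 - k) = k by omega]; exact hkx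
  push Not at hd
  refine simple_star hv h hk1 hk2 hx hkx hall hz honly (fun i hi => ?_) ?_
  · exact (hcase _ _ (h.adj i hi) (h.ne (by omega) hi (by omega))
      (h.not_triple ht htn hi)).resolve_right (hd i hi)
  · refine (hcase _ _ hkx hxne ?_).resolve_right hdx
    intro h3
    have hp := (h.sub k 2 (by omega)).cons (by omega) (hv x) (fun l hl => hx _ (by omega))
      (by rw [a_symm T]; exact hkx)
    exact hp.not_triple le_rfl (by omega) (i := 0) (by omega) h3.symm

end Groth.L26.NumType
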