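import Groth.Agent.L26.NumType.Config
import Mathlib.Tactic.IntervalCases

/-! The affine diagrams cannot occur on a proper subset of the indices; classification of edges. -/

namespace Groth.L26.NumType

open Finset Models Models.NumericalType

variable {n : ℕ} (T : NumericalType n)

/-- A pair with equal weights and intersection number equal to the weight. -/
def Simple (i j : Fin n) : Prop := T.a i j = T.w i ∧ T.w j = T.w i

/-- An edge `B₂ = C₂`. -/
def Double (i j : Fin n) : Prop :=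
  (T.a i j = T.w i ∧ T.w i = 2 * T.w j) ∨ (T.a i j = T.w j ∧ T.w j = 2 * T.w i)

/-- An edge `G₂`. -/
def Triple (i j : Fin n) : Prop :=
  (T.a i j = T.w i ∧ T.w i = 3 * T.w j) ∨ (T.a i j = T.w j ∧ T.w j = 3 * T.w i)

variable {T}

theorem Double.symm {i j : Fin n} (h : Double T i j) : Double T j i := by
  unfold Double at *; rw [a_symm T j i]; exact h.symm

theorem Triple.symm {i j : Fin n} (h : Triple T i j) : Triple T j i := by
  unfold Triple at *; rw [a_symm T j i]; exact h.symm

theorem Simple.symm {i j : Fin n} (h : Simple T i j) : Simple T j i := by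
  unfold Simple at *; rw [a_symm T j i]; exact ⟨h.1.trans h.2.symm, h.2.symm⟩

theorem Double.ne_zero {i j : Fin n} (h : Double T i j) : T.a i j ≠ 0 := by
  have := T.w_pos i; have := T.w_pos j
  rcases h with ⟨h, _⟩ | ⟨h, _⟩ <;> omega

theorem Simple.ne_zero {i j : Fin n} (h : Simple T i j) : T.a i j ≠ 0 := by
  have := T.w_pos i; have := h.1; omega

theorem Triple.ne_zero {i j : Fin n} (h : Triple T i j) : T.a i j ≠ 0 := by
  have := T.w_pos i; have := T.w_pos j
  rcases h with ⟨h, _⟩ | ⟨h, _⟩ <;> omega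

variable (T)

theorem bound_one {i j : Fin n} (hne : i ≠ j) (h : T.a i j ≠ 0) :
    (1:ℝ) ^ 2 * ((T.w i : ℝ) * T.w j) ≤ (T.a i j : ℝ) ^ 2 := by
  have hpos : 0 < T.a i j := lt_of_le_of_ne (T.offDiag_nonneg i j hne) (Ne.symm h)
  have h1 := Int.le_of_dvd hpos (T.w_dvd i j)
  have h2 := Int.le_of_dvd hpos (a_symm T j i ▸ T.w_dvd j i)
  have h3 : T.w i * T.w j ≤ T.a i j ^ 2 := by
    rw [sq]; exact mul_le_mul h1 h2 (T.w_pos j).le hpos.le
  rw [one_pow, one_mul]; exact_mod_cast h3

theorem bound_double {i j : Fin n} (h : Double T i j) :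
    (√2 : ℝ) ^ 2 * ((T.w i : ℝ) * T.w j) ≤ (T.a i j : ℝ) ^ 2 := by
  rw [Real.sq_sqrt (by norm_num)]
  rcases h with ⟨h1, h2⟩ | ⟨h1, h2⟩ <;> rw [h1, h2] <;> push_cast <;> apply le_of_eq <;> ring

theorem bound_triple {i j : Fin n} (h : Triple T i j) :
    (√3 : ℝ) ^ 2 * ((T.w i : ℝ) * T.w j) ≤ (T.a i j : ℝ) ^ 2 := by
  rw [Real.sq_sqrt (by norm_num)]
  rcases h with ⟨h1, h2⟩ | ⟨h1, h2⟩ <;> rw [h1, h2] <;> push_cast <;> apply le_of_eq <;> ring

theorem edge_cases (hn : 2 < n) {i j : Fin n} (hne : i ≠ j) (hi : T.IsMinusTwo i)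
    (hj : T.IsMinusTwo j) (h : T.a i j ≠ 0) : Simple T i j ∨ Double T i j ∨ Triple T i j := by
  have hpos : 0 < T.a i j := lt_of_le_of_ne (T.offDiag_nonneg i j hne) (Ne.symm h)
  obtain ⟨p, hp⟩ := T.w_dvd i j
  obtain ⟨q, hq⟩ := a_symm T j i ▸ T.w_dvd j i
  have hwi := T.w_pos i; have hwj := T.w_pos j
  have hp0 : 0 < p := by by_contra hc; push Not at hc; nlinarith
  have hq0 : 0 < q := by by_contra hc; push Not at hc; nlinarith
  have hpq : p * q < 4 := by
    by_contra hc; push Not at hc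
    have hle : 4 * (T.w i * T.w j) ≤ T.a i j ^ 2 := by
      calc 4 * (T.w i * T.w j) ≤ (p * q) * (T.w i * T.w j) :=
            mul_le_mul_of_nonneg_right hc (mul_pos hwi hwj).le
        _ = (T.w i * p) * (T.w j * q) := by ring
        _ = T.a i j ^ 2 := by rw [← hp, ← hq]; ring
    refine no_config T (k := 2) (by omega) hn (fun l => if l = 0 then i else j) ?_ ?_
      {(0, 1)} (fun _ => 2) (fun _ => 1) (fun _ _ => one_pos) ?_ ?_ ?_
    · intro a ha b hb hab
      simp only [Set.mem_Iio] at ha hb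
      interval_cases a <;> interval_cases b <;> simp_all [eq_comm]
    · intro l hl; split_ifs <;> assumption
    · simp
    · simp only [mem_singleton, forall_eq]; norm_num
      exact_mod_cast hle
    · simp [Finset.sum_range_succ]
  have hp3 : p ≤ 3 := by nlinarith
  have hq3 : q ≤ 3 := by nlinarith
  unfold Simple Double Triple
  interval_cases p <;> interval_cases q <;> omega

theorem simple_of_not (hn : 2 < n) {i j : Fin n} (hne : i ≠ j) (hi : T.IsMinusTwo i)
    (hj : T.IsMinusTwo j) (h : T.a i j ≠ 0) (h2 : ¬ Double T i j) (h3 : ¬ Triple T i j) :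
    Simple T i j := by
  rcases edge_cases T hn hne hi hj h with h' | h' | h'
  · exact h'
  · exact absurd h' h2
  · exact absurd h' h3

/-- Edges of a path `0 — 1 — ⋯ — K`. -/
def pathE (K : ℕ) : Finset (ℕ × ℕ) := (range K).image fun i => (i, i + 1)

theorem mem_pathE {K : ℕ} {e : ℕ × ℕ} : e ∈ pathE K ↔ e.1 < K ∧ e.2 = e.1 + 1 := by
  obtain ⟨a, b⟩ := e
  simp [pathE, Prod.ext_iff, eq_comm]

theorem sum_pathE (K : ℕ) (f : ℕ × ℕ → ℝ) : ∑ e ∈ pathE K, f e = ∑ i ∈ range K, f (i, i + 1) := by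
  rw [pathE, sum_image]
  intro a _ b _ h
  exact (Prod.ext_iff.1 h).1

/-- No cycle. -/
theorem no_cycle {K : ℕ} (hK : 2 ≤ K) (hKn : K + 1 < n) (u : ℕ → Fin n)
    (hu : Set.InjOn u (Set.Iio (K + 1))) (hv : ∀ i ≤ K, T.IsMinusTwo (u i))
    (hp : ∀ i < K, T.a (u i) (u (i + 1)) ≠ 0) : T.a (u 0) (u K) = 0 := by
  by_contra hc
  have hne : ∀ i j, i < j → j ≤ K → u i ≠ u j := fun i j h1 h2 h =>
    h1.ne (hu (Set.mem_Iio.2 (by omega)) (Set.mem_Iio.2 (by omega)) h)
  refine no_config T (k := K + 1) (by omega) hKn u hu (fun i hi => hv i (by omega))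
    (insert (0, K) (pathE K)) (fun _ => 1) (fun _ => 1) (fun _ _ => one_pos) ?_ ?_ ?_
  · intro e he
    rcases mem_insert.1 he with rfl | he
    · exact ⟨by omega, by omega⟩
    · rw [mem_pathE] at he; omega
  · intro e he
    rcases mem_insert.1 he with rfl | he
    · exact bound_one T (hne 0 K (by omega) le_rfl) hc
    · obtain ⟨a, b⟩ := e
      obtain ⟨h1, h2⟩ := mem_pathE.1 he
      dsimp only at h1 h2 ⊢; subst h2
      exact bound_one T (hne a (a + 1) (by omega) (by omega)) (hp a h1)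
  · rw [sum_insert (by rw [mem_pathE]; simp; omega), sum_pathE]
    simp; linarith

/-- No path with double edges at both ends. -/
theorem no_double_double {K : ℕ} (hK : 2 ≤ K) (hKn : K + 1 < n) (u : ℕ → Fin n)
    (hu : Set.InjOn u (Set.Iio (K + 1))) (hv : ∀ i ≤ K, T.IsMinusTwo (u i))
    (hp : ∀ i < K, T.a (u i) (u (i + 1)) ≠ 0) (h0 : Double T (u 0) (u 1))
    (h1 : Double T (u (K - 1)) (u K)) : False := by
  obtain ⟨L, rfl⟩ : ∃ L, K = L + 2 := ⟨K - 2, by omega⟩
  have s2 : (√2 : ℝ) * √2 = 2 := Real.mul_self_sqrt (by norm_num)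
  refine no_config T (k := L + 3) (by omega) (by omega) u hu (fun i hi => hv i (by omega))
    (pathE (L + 2)) (fun e => if e.1 = 0 ∨ e.1 = L + 1 then √2 else 1)
    (fun i => if i = 0 ∨ i = L + 2 then 1 else √2) ?_ ?_ ?_ ?_
  · intro i _; split_ifs <;> positivity
  · intro e he; rw [mem_pathE] at he; omega
  · intro e he
    obtain ⟨a, b⟩ := e
    obtain ⟨ha, hb⟩ := mem_pathE.1 he
    dsimp only at ha hb ⊢; subst hb
    by_cases ha0 : a = 0
    · subst ha0; rw [if_pos (Or.inl rfl)]; exact bound_double T h0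
    by_cases ha1 : a = L + 1
    · subst ha1; rw [if_pos (Or.inr rfl)]; exact bound_double T (by simpa using h1)
    rw [if_neg (by omega)]
    exact bound_one T (fun h => by
      have := hu (Set.mem_Iio.2 (by omega)) (Set.mem_Iio.2 (by omega)) h; omega) (hp a (by omega))
  · have eL : ∀ x ∈ range (L + 1), (if x + 1 = 0 ∨ x + 1 = L + 2 then (1:ℝ) else √2) = √2 := by
      intro x hx; rw [mem_range] at hx; rw [if_neg (by omega)]
    have eR : ∀ x ∈ range L, (if x + 1 = 0 ∨ x + 1 = L + 1 then (√2:ℝ) else 1) *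
        ((if x + 1 = 0 ∨ x + 1 = L + 2 then (1:ℝ) else √2) *
          (if x + 1 + 1 = 0 ∨ x + 1 + 1 = L + 2 then (1:ℝ) else √2)) = 2 := by
      intro x hx; rw [mem_range] at hx
      rw [if_neg (by omega), if_neg (by omega), if_neg (by omega), one_mul, s2]
    rw [sum_pathE, sum_range_succ, sum_range_succ']
    conv_rhs => rw [sum_range_succ, sum_range_succ']
    dsimp only
    rw [sum_congr rfl (fun x hx => congrArg (fun t : ℝ => t ^ 2) (eL x hx)), sum_congr rfl eR]
    simp [sq, s2]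
    linarith

/-- No `B̃`: a double edge at one end and a fork `K, K+1` at the other end. -/
theorem no_double_fork {K : ℕ} (hK : 2 ≤ K) (hKn : K + 2 < n) (u : ℕ → Fin n)
    (hu : Set.InjOn u (Set.Iio (K + 2))) (hv : ∀ i ≤ K + 1, T.IsMinusTwo (u i))
    (hp : ∀ i < K, T.a (u i) (u (i + 1)) ≠ 0) (hb : T.a (u (K - 1)) (u (K + 1)) ≠ 0)
    (h0 : Double T (u 0) (u 1)) : False := by
  obtain ⟨L, rfl⟩ : ∃ L, K = L + 2 := ⟨K - 2, by omega⟩
  simp only [show L + 2 - 1 = L + 1 by omega, show L + 2 + 1 = L + 3 by omega] at hb hv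
  have s2 : (√2 : ℝ) * √2 = 2 := Real.mul_self_sqrt (by norm_num)
  have hne : ∀ i j, i < j → j ≤ L + 3 → u i ≠ u j := fun i j h1 h2 h =>
    h1.ne (hu (Set.mem_Iio.2 (by omega)) (Set.mem_Iio.2 (by omega)) h)
  refine no_config T (k := L + 4) (by omega) (by omega) u hu (fun i hi => hv i (by omega))
    (insert (L + 1, L + 3) (pathE (L + 2))) (fun e => if e.1 = 0 then √2 else 1)
    (fun i => if i = 0 then √2 else if i ≤ L + 1 then 2 else 1) ?_ ?_ ?_ ?_
  · intro i _; split_ifs <;> positivity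
  · intro e he
    rcases mem_insert.1 he with rfl | he
    · exact ⟨by omega, by omega⟩
    · rw [mem_pathE] at he; omega
  · intro e he
    rcases mem_insert.1 he with rfl | he
    · rw [if_neg (by omega)]; exact bound_one T (hne _ _ (by omega) le_rfl) hb
    obtain ⟨a, b⟩ := e
    obtain ⟨ha, hb⟩ := mem_pathE.1 he
    dsimp only at ha hb ⊢; subst hb
    by_cases ha0 : a = 0
    · subst ha0; rw [if_pos rfl]; exact bound_double T h0
    rw [if_neg ha0]; exact bound_one T (hne _ _ (by omega) (by omega)) (hp a ha)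
  · have eL : ∀ x ∈ range (L + 1),
        (if x + 1 = 0 then (√2:ℝ) else if x + 1 ≤ L + 1 then 2 else 1) = 2 := by
      intro x hx; rw [mem_range] at hx; rw [if_neg (by omega), if_pos (by omega)]
    have eR : ∀ x ∈ range L, (if x + 1 = 0 then (√2:ℝ) else 1) *
        ((if x + 1 = 0 then (√2:ℝ) else if x + 1 ≤ L + 1 then 2 else 1) *
          (if x + 1 + 1 = 0 then (√2:ℝ) else if x + 1 + 1 ≤ L + 1 then 2 else 1)) = 4 := by
      intro x hx; rw [mem_range] at hx
      rw [if_neg (by omega), if_neg (by omega), if_pos (by omega), if_neg (by omega),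
        if_pos (by omega)]
      norm_num
    rw [sum_insert (by rw [mem_pathE]; simp), sum_pathE, sum_range_succ, sum_range_succ,
      sum_range_succ']
    conv_rhs => rw [sum_range_succ, sum_range_succ']
    dsimp only
    rw [sum_congr rfl (fun x hx => congrArg (fun t : ℝ => t ^ 2) (eL x hx)), sum_congr rfl eR]
    simp [sq]
    nlinarith [s2]

/-- No double fork. -/
theorem no_fork_fork {L : ℕ} (hKn : L + 5 < n) (u : ℕ → Fin n)
    (hu : Set.InjOn u (Set.Iio (L + 5))) (hv : ∀ i ≤ L + 4, T.IsMinusTwo (u i))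
    (hp : ∀ i, 1 ≤ i → i ≤ L + 2 → T.a (u i) (u (i + 1)) ≠ 0) (h0 : T.a (u 0) (u 2) ≠ 0)
    (hb : T.a (u (L + 2)) (u (L + 4)) ≠ 0) : False := by
  have hne : ∀ i j, i < j → j ≤ L + 4 → u i ≠ u j := fun i j h1 h2 h =>
    h1.ne (hu (Set.mem_Iio.2 (by omega)) (Set.mem_Iio.2 (by omega)) h)
  let E : Finset (ℕ × ℕ) := insert (0, 2) (insert (L + 2, L + 4)
    ((range (L + 2)).image fun i => (i + 1, i + 2)))
  refine no_config T (k := L + 5) (by omega) hKn u hu (fun i hi => hv i (by omega))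
    E (fun _ => 1) (fun i => if i < 2 ∨ L + 3 ≤ i then 1 else 2) ?_ ?_ ?_ ?_
  · intro i _; split_ifs <;> positivity
  · intro e he
    simp only [E, mem_insert, mem_image, mem_range] at he
    rcases he with rfl | rfl | ⟨i, hi, rfl⟩ <;> exact ⟨by omega, by omega⟩
  · intro e he
    simp only [E, mem_insert, mem_image, mem_range] at he
    rcases he with rfl | rfl | ⟨i, hi, rfl⟩
    · exact bound_one T (hne _ _ (by omega) (by omega)) h0
    · exact bound_one T (hne _ _ (by omega) (by omega)) hb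
    · exact bound_one T (hne _ _ (by omega) (by omega)) (hp _ (by omega) (by omega))
  · have eL : ∀ x ∈ range (L + 1),
        (if x + 1 + 1 < 2 ∨ L + 3 ≤ x + 1 + 1 then (1:ℝ) else 2) = 2 := by
      intro x hx; rw [mem_range] at hx; rw [if_neg (by omega)]
    have eR : ∀ x ∈ range L,
        (if x + 1 + 1 < 2 ∨ L + 3 ≤ x + 1 + 1 then (1:ℝ) else 2) *
          (if x + 1 + 2 < 2 ∨ L + 3 ≤ x + 1 + 2 then (1:ℝ) else 2) = 4 := by
      intro x hx; rw [mem_range] at hx
      rw [if_neg (by omega), if_neg (by omega)]; norm_num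
    have n1 : (L + 2, L + 4) ∉ (range (L + 2)).image fun i => (i + 1, i + 2) := by
      simp only [mem_image, Prod.mk.injEq, not_exists, not_and]; intros; omega
    have n0 : ((0 : ℕ), 2) ∉ insert (L + 2, L + 4) ((range (L + 2)).image fun i => (i + 1, i + 2)) := by
      simp only [mem_insert, mem_image, Prod.mk.injEq, not_or, not_exists, not_and]
      exact ⟨by intros; omega, by intros; omega⟩
    rw [sum_insert n0, sum_insert n1, sum_image (fun a _ b _ h => by
      have := (Prod.ext_iff.1 h).1; dsimp only at this; omega)]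
    rw [sum_range_succ, sum_range_succ, sum_range_succ', sum_range_succ']
    conv_rhs => rw [sum_range_succ, sum_range_succ']
    simp only [one_mul]
    rw [sum_congr rfl (fun x hx => congrArg (fun t : ℝ => t ^ 2) (eL x hx)), sum_congr rfl eR]
    simp
    norm_num
    linarith

/-- No vertex with four neighbours. -/
theorem no_four (hn : 5 < n) (u : ℕ → Fin n) (hu : Set.InjOn u (Set.Iio 5))
    (hv : ∀ i < 5, T.IsMinusTwo (u i)) (h : ∀ i, 1 ≤ i → i < 5 → T.a (u 0) (u i) ≠ 0) : False := by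
  refine no_config T (k := 5) (by omega) hn u hu hv {(0, 1), (0, 2), (0, 3), (0, 4)} (fun _ => 1)
    (fun i => if i = 0 then 2 else 1) ?_ ?_ ?_ ?_
  · intro i _; split_ifs <;> positivity
  · decide
  · simp only [mem_insert, mem_singleton, forall_eq_or_imp, forall_eq]
    have : ∀ i, 1 ≤ i → i < 5 → u 0 ≠ u i := fun i h1 h2 e => by
      have := hu (Set.mem_Iio.2 (by omega)) (Set.mem_Iio.2 h2) e; omega
    exact ⟨bound_one T (this 1 le_rfl (by omega)) (h 1 le_rfl (by omega)),
      bound_one T (this 2 (by omega) (by omega)) (h 2 (by omega) (by omega)),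
      bound_one T (this 3 (by omega) (by omega)) (h 3 (by omega) (by omega)),
      bound_one T (this 4 (by omega) (by omega)) (h 4 (by omega) (by omega))⟩
  · simp [Finset.sum_range_succ]; norm_num

/-- No `G̃₂`. -/
theorem no_triple (hn : 3 < n) (u : ℕ → Fin n) (hu : Set.InjOn u (Set.Iio 3))
    (hv : ∀ i < 3, T.IsMinusTwo (u i)) (h0 : T.a (u 0) (u 1) ≠ 0) (h1 : Triple T (u 1) (u 2)) :
    False := by
  have s3 : (√3 : ℝ) * √3 = 3 := Real.mul_self_sqrt (by norm_num)
  refine no_config T (k := 3) (by omega) hn u hu hv {(0, 1), (1, 2)}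
    (fun e => if e.1 = 0 then 1 else √3)
    (fun i => if i = 0 then 1 else if i = 1 then 2 else √3) ?_ ?_ ?_ ?_
  · intro i _; split_ifs <;> positivity
  · decide
  · simp only [mem_insert, mem_singleton, forall_eq_or_imp, forall_eq]
    simp
    exact ⟨by simpa using bound_one T (fun e => by
      have := hu (Set.mem_Iio.2 (by omega)) (Set.mem_Iio.2 (by omega)) e; omega) h0,
      by simpa using bound_triple T h1⟩
  · simp [Finset.sum_range_succ]
    nlinarith [s3]

/-- No `F̃₄`. -/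
theorem no_F4 (hn : 5 < n) (u : ℕ → Fin n) (hu : Set.InjOn u (Set.Iio 5))
    (hv : ∀ i < 5, T.IsMinusTwo (u i)) (hp : ∀ i < 4, T.a (u i) (u (i + 1)) ≠ 0)
    (h2 : Double T (u 2) (u 3)) : False := by
  have s2 : (√2 : ℝ) * √2 = 2 := Real.mul_self_sqrt (by norm_num)
  have hne : ∀ i j, i < j → j < 5 → u i ≠ u j := fun i j h1 h2 h =>
    h1.ne (hu (Set.mem_Iio.2 (by omega)) (Set.mem_Iio.2 h2) h)
  refine no_config T (k := 5) (by omega) hn u hu hv (pathE 4)
    (fun e => if e.1 = 2 then √2 else 1)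
    (fun i => if i < 3 then (i : ℝ) + 1 else if i = 3 then 2 * √2 else √2) ?_ ?_ ?_ ?_
  · intro i _; split_ifs <;> positivity
  · intro e he; rw [mem_pathE] at he; omega
  · intro e he
    obtain ⟨a, b⟩ := e
    obtain ⟨ha, hb⟩ := mem_pathE.1 he
    dsimp only at ha hb ⊢; subst hb
    by_cases ha0 : a = 2
    · subst ha0; rw [if_pos rfl]; exact bound_double T h2
    rw [if_neg ha0]; exact bound_one T (hne _ _ (by omega) (by omega)) (hp a ha)
  · rw [sum_pathE]
    simp [Finset.sum_range_succ]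
    nlinarith [s2]

end Groth.L26.NumType
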