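import Groth.Agent.L26.NumType.Chains

/-! The affine shapes of genus one, with integral data. -/

namespace Groth.L26.NumType

open Finset Models Models.NumericalType

variable {n : ℕ} (T : NumericalType n)

/-- `T` is, up to renumbering, `(μ • m, ω • w, α • w)`. -/
def Matches (μ ω : ℕ → ℤ) (α : ℕ → ℕ → ℤ) : Prop :=
  ∃ (u : ℕ → Fin n) (m w : ℤ), Set.InjOn u (Set.Iio n) ∧
    (∀ i < n, T.m (u i) = μ i * m ∧ T.w (u i) = ω i * w) ∧
    ∀ i j, i < j → j < n → T.a (u i) (u j) = α i j * w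

variable {T}

theorem match_of_config {k : ℕ} {u : ℕ → Fin n} (hu : Set.InjOn u (Set.Iio k))
    (hv : ∀ i, T.IsMinusTwo i) {E : Finset (ℕ × ℕ)} {ℓ : ℕ × ℕ → ℝ} {y : ℕ → ℝ}
    (μ ω : ℕ → ℤ) (α : ℕ → ℕ → ℤ) (c : ℝ) (hc : 0 < c) {r : ℕ} (hr : r < k) (hμr : μ r = 1)
    (w0 : ℤ) (hω : ∀ i < k, T.w (u i) = ω i * w0)
    (hy : ∀ i < k, 0 < y i ∧ 0 < μ i ∧ 0 < ω i ∧ y i ^ 2 = ((μ i ^ 2 * ω i : ℤ) : ℝ) * c)
    (hE : ∀ e ∈ E, e.1 < e.2 ∧ e.2 < k)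
    (hℓ : ∀ e ∈ E, ℓ e ^ 2 * ((T.w (u e.1) : ℝ) * T.w (u e.2)) ≤ (T.a (u e.1) (u e.2) : ℝ) ^ 2)
    (hα : ∀ i j, i < j → j < k →
      0 ≤ α i j ∧ lw E ℓ i j ^ 2 * ((ω i * ω j : ℤ) : ℝ) = ((α i j : ℤ) : ℝ) ^ 2)
    (hsum : ∑ i ∈ range k, y i ^ 2 ≤ ∑ e ∈ E, ℓ e * (y e.1 * y e.2)) :
    k = n ∧ Matches T μ ω α := by
  obtain ⟨hkn, ⟨q, hq⟩, ha, -⟩ := config_eq T (by omega) u hu (fun i _ => hv _) E ℓ y
    (fun i hi => (hy i hi).1) hE hℓ hsum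
  subst hkn
  refine ⟨rfl, u, T.m (u r), w0, hu, fun i hi => ⟨?_, hω i hi⟩, fun i j hij hj => ?_⟩
  · have hw0 : 0 < w0 := by
      have h1 := hω r hr; have h2 := T.w_pos (u r); have h3 := (hy r hr).2.2.1
      nlinarith
    obtain ⟨-, hμi, hωi, ei⟩ := hy i hi
    obtain ⟨-, -, hωr, er⟩ := hy r hr
    rw [hq i hi, mul_pow, mul_pow, Real.sq_sqrt (Int.cast_nonneg (T.w_pos _).le), hω i hi] at ei
    rw [hq r hr, mul_pow, mul_pow, Real.sq_sqrt (Int.cast_nonneg (T.w_pos _).le), hω r hr, hμr] at er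
    push_cast at ei er
    have hqne : q ≠ 0 := fun h => by
      have := (hy r hr).1
      rw [hq r hr, h, zero_mul] at this
      exact lt_irrefl _ this
    have key : q ^ 2 * ((T.m (u i) : ℝ) ^ 2 * w0 * ω i * ω r)
        = q ^ 2 * (((μ i : ℝ) * T.m (u r)) ^ 2 * w0 * ω i * ω r) := by
      linear_combination (ω r : ℝ) * ei - (μ i : ℝ) ^ 2 * ω i * er
    have k1 := mul_left_cancel₀ (pow_ne_zero 2 hqne) key
    have e1 : (T.m (u i) : ℝ) ^ 2 = ((μ i : ℝ) * T.m (u r)) ^ 2 := by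
      refine mul_right_cancel₀ (show ((w0 : ℝ) * ω i * ω r) ≠ 0 from ?_) (by linear_combination k1)
      exact mul_ne_zero (mul_ne_zero (Int.cast_ne_zero.2 hw0.ne') (Int.cast_ne_zero.2 hωi.ne'))
        (Int.cast_ne_zero.2 hωr.ne')
    have hmi : (0:ℝ) ≤ T.m (u i) := Int.cast_nonneg (T.m_pos _).le
    have hmr : (0:ℝ) ≤ (μ i : ℝ) * T.m (u r) :=
      mul_nonneg (Int.cast_nonneg hμi.le) (Int.cast_nonneg (T.m_pos _).le)
    exact_mod_cast (pow_left_inj₀ hmi hmr two_ne_zero).1 e1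
  · have hi : i < k := hij.trans hj
    obtain ⟨hα0, hα2⟩ := hα i j hij hj
    have h := congrArg (fun x : ℝ => x ^ 2) (ha i hi j hj hij.ne)
    simp only [mul_pow] at h
    rw [Real.sq_sqrt (Int.cast_nonneg (T.w_pos _).le), Real.sq_sqrt (Int.cast_nonneg (T.w_pos _).le),
      hω i hi, hω j hj] at h
    push_cast at h hα2
    have h2 : (T.a (u i) (u j) : ℝ) ^ 2 = ((α i j : ℝ) * w0) ^ 2 := by
      linear_combination h + (w0 : ℝ) ^ 2 * hα2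
    have hw0 : 0 ≤ w0 := by
      have h1 := hω r hr; have h2 := T.w_pos (u r); have h3 := (hy r hr).2.2.1
      nlinarith
    have hne : u i ≠ u j := fun e => hij.ne (hu (Set.mem_Iio.2 hi) (Set.mem_Iio.2 hj) e)
    exact_mod_cast (pow_left_inj₀ (Int.cast_nonneg (T.offDiag_nonneg _ _ hne))
      (mul_nonneg (Int.cast_nonneg hα0) (Int.cast_nonneg hw0)) two_ne_zero).1 h2

end Groth.L26.NumType
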